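import Cfsg.Agent.Lib.ThreePrime.Point.Block

/-!
Owner: helper29. S0336, slice D: the shape of the centralizer of a bad involution modulo its odd core.
-/

set_option autoImplicit false
set_option linter.style.haveILetI false
set_option linter.unusedSectionVars false

namespace CfsgLib.ThreePrime.Point

open Subgroup
open scoped commutatorElement

universe u

local instance factTwoBlockMain : Fact (Nat.Prime 2) := ⟨Nat.prime_two⟩

theorem isoSuzuki_congr {A B : Type u} [Group A] [Group B] (h : Cfsg.Lie.IsoSuzuki A) (e : B ≃* A) :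
    Cfsg.Lie.IsoSuzuki B := by
  obtain ⟨F, iF, iT, m, hm, hF, ⟨e'⟩⟩ := h
  exact ⟨F, iF, iT, m, hm, hF, ⟨e.trans e'⟩⟩

variable {X : Type u} [Group X] [Finite X] {M R : Subgroup X}

namespace BlockCtx

variable (h : BlockCtx M R)
include h

theorem component_spec : ∃ K : Subgroup X, Cfsg.IsComponent K ∧ Cfsg.Lie.IsoSuzuki K ∧ R ≤ K ∧
    Nat.card K = Nat.card R ^ 2 * (Nat.card R ^ 2 + 1) * (Nat.card R - 1) ∧ M.index = Nat.card R ^ 2 + 1 ∧
    (∃ m, 1 ≤ m ∧ Nat.card R = 2 ^ (2 * m + 1)) ∧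
    ∀ a ∈ R, ∀ b ∈ R, a ≠ 1 → b ≠ 1 → ∃ m ∈ M, m * a * m⁻¹ = b := by
  classical
  obtain ⟨Y, P, hYc, hRY, hnot, hPM⟩ := h.exists_main
  obtain ⟨q, Q, Z, hSz, hQ⟩ := h.exists_pack (P := P) hYc
  set π := QuotientGroup.mk' (center Y) with hπ
  have hF : Cfsg.fittingSubgroup X = Cfsg.pCore 2 X := CfsgLib.Components.fitting_eq_pCore_of_core_bot h.odd
  have hcen : ∀ c : Y, c ∈ center Y → (c : X) ∈ Cfsg.pCore 2 X := fun c hc => by
    rw [← hF]
    refine CfsgLib.Components.subnormal_nilpotent_le_fitting ((Subgroup.Normal.isSubnormal inferInstance).trans' hYc.1)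
      ?_ (⟨c, hc, rfl⟩ : (c : X) ∈ (center Y).map Y.subtype)
    refine ⟨⟨1, ?_⟩⟩
    rw [Subgroup.upperCentralSeries_one, eq_top_iff]
    rintro ⟨_, v, hv, rfl⟩ -
    refine mem_center_iff.2 ?_
    rintro ⟨_, w, -, rfl⟩
    exact Subtype.ext (congrArg Subtype.val (mem_center_iff.1 hv w) :)
  have hR1 : ∀ a : Y, (a : X) ∈ R → π a = 1 → (a : X) = 1 := fun a ha e =>
    h.inf_core ha (hcen a ((QuotientGroup.eq_one_iff a).1 e))
  have hRM : ∀ {x : X}, x ∈ R → x ∈ M := fun hx => h.le hx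
  have hRP : ∀ {x : X}, x ∈ R → x ∈ (P : Subgroup X) := fun {x} hx => by
    obtain ⟨P', hP'M, hP'R⟩ := h.exists_sylow
    -- the normal two-subgroup lies in every Sylow subgroup of `M`
    let P₀ : Sylow 2 M := P.subtype hPM
    haveI : (R.subgroupOf M).Normal := ⟨fun r hr m => mem_subgroupOf.2 (h.inv m m.2 r (mem_subgroupOf.1 hr))⟩
    have hRp : IsPGroup 2 (R.subgroupOf M) := fun r => ⟨1, Subtype.ext (Subtype.ext (by
      show ((r : M) : X) ^ 2 ^ 1 = 1
      rw [pow_one, pow_two]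
      exact h.sq _ (mem_subgroupOf.1 r.2)))⟩
    have h1 := CfsgLib.HallGen.pCore_le_sylow P₀
      (CfsgLib.Components.le_pCore inferInstance hRp (show (⟨x, hRM hx⟩ : M) ∈ R.subgroupOf M from mem_subgroupOf.2 hx))
    exact h1
  have hZm : ∀ a : Y, (a : X) ∈ R → π a ∈ Z := fun a ha => hSz.mem_Z _ ((hQ a).2 (hRP ha)) (by
    rw [← map_mul, show a * a = 1 from Subtype.ext (h.sq _ ha), map_one])
  obtain ⟨a₀, ha₀, ha₀1⟩ : ∃ a ∈ R, a ≠ 1 := by
    by_contra hne
    push Not at hne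
    exact h.ne_bot ((eq_bot_iff_forall R).2 hne)
  have hinjR : ∀ a b : Y, (a : X) ∈ R → (b : X) ∈ R → π a = π b → a = b := fun a b ha hb e =>
    Subtype.ext (inv_mul_eq_one.1 (hR1 (a⁻¹ * b) (mul_mem (inv_mem ha) hb)
      (by rw [map_mul, map_inv, e, inv_mul_cancel])))
  -- elements of `Y` fixing the point
  have hNM : ∀ g : Y, π g ∈ normalizer ((Q : Subgroup (Y ⧸ center Y)) : Set (Y ⧸ center Y)) → (g : X) ∈ M := by
    intro g hg
    refine h.fix a₀ ha₀ ha₀1 _ (hPM ?_)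
    have h1 := (mem_normalizer_iff.1 hg _).1 ((hQ ⟨a₀, hRY ha₀⟩).2 (hRP ha₀))
    rw [← map_inv, ← map_mul, ← map_mul, hQ] at h1
    exact h1
  have htrans : ∀ a ∈ R, ∀ z ∈ Z, a ≠ 1 → z ≠ 1 →
      ∃ g : Y, (g : X) ∈ M ∧ ∀ heY : (g : X) * a * (g : X)⁻¹ ∈ Y, π ⟨_, heY⟩ = z := by
    intro a ha z hz ha1 hz1
    obtain ⟨n, hn, hnz⟩ := hSz.trans_Z _ (hZm ⟨a, hRY ha⟩ ha) z hz (fun e => ha1 (hR1 _ ha e)) hz1
    obtain ⟨g, rfl⟩ := QuotientGroup.mk'_surjective (center Y) n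
    refine ⟨g, hNM g hn, fun heY => ?_⟩
    rw [← hnz, ← map_inv, ← map_mul, ← map_mul]
    exact congrArg π (Subtype.ext rfl)
  have honto : ∀ z ∈ Z, ∃ e : Y, (e : X) ∈ R ∧ π e = z := by
    intro z hz
    by_cases hz1 : z = 1
    · exact ⟨1, one_mem _, by rw [hz1, map_one]⟩
    · obtain ⟨g, hgM, hge⟩ := htrans a₀ ha₀ z hz ha₀1 hz1
      have hR' := h.inv _ hgM a₀ ha₀
      exact ⟨⟨_, hRY hR'⟩, hR', hge _⟩
  have hq : Nat.card R = q := by
    rw [← hSz.card_Z]
    refine Nat.card_eq_of_bijective (fun a : R => (⟨π ⟨a, hRY a.2⟩, hZm _ a.2⟩ : Z)) ⟨fun a b e => ?_, fun z => ?_⟩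
    · exact Subtype.ext (congrArg Subtype.val (hinjR ⟨a, hRY a.2⟩ ⟨b, hRY b.2⟩ a.2 b.2 (congrArg Subtype.val e)) :)
    · obtain ⟨e, he, hez⟩ := honto z z.2
      exact ⟨⟨e, he⟩, Subtype.ext hez⟩
  -- `Y` is normal
  have hYn : Y.Normal := by
    refine ⟨fun y hy g => ?_⟩
    suffices e : Y.map (MulAut.conj g).toMonoidHom = Y by rw [← e]; exact ⟨y, hy, rfl⟩
    by_contra hne
    have hc := CfsgLib.Components.components_commute hYc (CfsgLib.Components.isComponent_conj hYc g) fun e => hne e.symm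
    have hcom : ∀ u ∈ Y, ∀ v ∈ Y.map (MulAut.conj g).toMonoidHom, u * v = v * u := fun u hu v hv =>
      (mem_centralizer_iff.1 (commutator_eq_bot_iff_le_centralizer.1 hc hu) v hv).symm
    have hgm : g * a₀ * g⁻¹ ∈ Y.map (MulAut.conj g).toMonoidHom := ⟨a₀, hRY ha₀, rfl⟩
    have hgM := h.fix a₀ ha₀ ha₀1 g (h.cent ha₀ ha₀1 (hcom a₀ (hRY ha₀) _ hgm).symm)
    have hR' := h.inv g hgM a₀ ha₀
    have h1 : g * a₀ * g⁻¹ = 1 := hR1 ⟨_, hRY hR'⟩ hR' ((QuotientGroup.eq_one_iff _).2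
      (mem_center_iff.2 fun v => Subtype.ext (hcom v v.2 _ hgm)))
    exact ha₀1 (conj_eq_one_iff.1 h1)
  -- the index
  have hindex : M.index = Nat.card R ^ 2 + 1 := by
    rw [hq, ← hSz.index, ← Subgroup.index_comap_of_surjective (f := π) _ (QuotientGroup.mk'_surjective _)]
    have e : (normalizer ((Q : Subgroup (Y ⧸ center Y)) : Set (Y ⧸ center Y))).comap π = M.subgroupOf Y := by
      ext g
      refine ⟨fun hg => mem_subgroupOf.2 (hNM g hg), fun hg => ?_⟩
      rw [mem_comap, ← hSz.norm_Z]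
      have key : ∀ g : Y, (g : X) ∈ M → ∀ z ∈ Z, π g * z * (π g)⁻¹ ∈ Z := fun g hg z hz => by
        obtain ⟨e, he, rfl⟩ := honto z hz
        rw [← map_inv, ← map_mul, ← map_mul]
        exact hZm _ (h.inv _ hg _ he)
      refine mem_normalizer_iff.2 fun z => ⟨key g (mem_subgroupOf.1 hg) z, fun hz => ?_⟩
      have := key g⁻¹ (inv_mem (mem_subgroupOf.1 hg)) _ hz
      simpa [mul_assoc] using this
    rw [e]
    refine (Nat.card_eq_of_bijective (Quotient.lift (fun y : Y => ((y : X) : X ⧸ M)) fun a b hab => ?_)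
      ⟨?_, fun x => ?_⟩).symm
    · exact QuotientGroup.eq.2 (mem_subgroupOf.1 (QuotientGroup.leftRel_apply.1 hab))
    · intro x y
      induction x using Quotient.inductionOn with
      | _ x =>
        induction y using Quotient.inductionOn with
        | _ y =>
          intro hxy
          exact QuotientGroup.eq.2 (mem_subgroupOf.2 (QuotientGroup.eq.1 hxy))
    · induction x using QuotientGroup.induction_on with
      | _ x =>
        -- some element of `Y` moves `x` back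
        have hb : x⁻¹ * a₀ * x ∈ Y := by simpa using hYn.conj_mem a₀ (hRY ha₀) x⁻¹
        set b : Y := ⟨_, hb⟩ with hbdef
        have hb2 : π b * π b = 1 := by
          rw [← map_mul, show b * b = 1 from Subtype.ext (by
            show x⁻¹ * a₀ * x * (x⁻¹ * a₀ * x) = 1
            rw [show x⁻¹ * a₀ * x * (x⁻¹ * a₀ * x) = x⁻¹ * (a₀ * a₀) * x by group, h.sq a₀ ha₀]
            group), map_one]
        have hp : IsPGroup 2 (zpowers (π b)) := fun z => by
          obtain ⟨i, hi⟩ := z.2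
          refine ⟨1, Subtype.ext ?_⟩
          show (z : Y ⧸ center Y) ^ 2 ^ 1 = 1
          rw [← hi, pow_one, pow_two, ← (Commute.refl (π b)).mul_zpow, hb2, one_zpow]
        obtain ⟨Q', hQ'⟩ := hp.exists_le_sylow
        obtain ⟨n, hn⟩ := MulAction.exists_smul_eq (Y ⧸ center Y) Q' Q
        obtain ⟨y, rfl⟩ := QuotientGroup.mk'_surjective (center Y) n
        have h1 : π (y * b * y⁻¹) ∈ (Q : Subgroup (Y ⧸ center Y)) := by
          rw [← hn, Sylow.coe_subgroup_smul, Subgroup.mem_pointwise_smul_iff_inv_smul_mem]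
          simpa [MulAut.smul_def, mul_assoc, hπ] using hQ' (mem_zpowers (π b))
        rw [hQ] at h1
        have h2 := h.fix a₀ ha₀ ha₀1 ((y : X) * x⁻¹) (hPM (by
          have : (y : X) * x⁻¹ * a₀ * ((y : X) * x⁻¹)⁻¹ = ((y * b * y⁻¹ : Y) : X) := by
            simp only [hbdef, Subgroup.coe_mul, Subgroup.coe_inv]; group
          rw [this]; exact h1))
        refine ⟨Quotient.mk'' (⟨x * (y : X) * x⁻¹, hYn.conj_mem _ y.2 x⟩), QuotientGroup.eq.2 ?_⟩
        show (x * (y : X) * x⁻¹)⁻¹ * x ∈ M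
        have := inv_mem h2
        rw [show (x * (y : X) * x⁻¹)⁻¹ * x = x * ((y : X)⁻¹) by group]
        simpa using this
  -- no centre
  obtain ⟨m, hm, hqm⟩ := hSz.pow
  have hbot : center Y = ⊥ := by
    have hQcard : Nat.card (Q : Subgroup (Y ⧸ center Y)) = q ^ 2 := by
      obtain ⟨i, hi⟩ := Q.isPGroup'.exists_card_eq
      have hid : Odd (Q : Subgroup (Y ⧸ center Y)).index := Nat.odd_iff.2 (Nat.two_dvd_ne_zero.1 Q.not_dvd_index)
      have hodd : Odd ((q ^ 2 + 1) * (q - 1)) := by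
        refine Odd.mul ?_ ?_
        · exact Even.add_one ((Nat.even_pow.2 ⟨hqm ▸ Nat.even_pow.2 ⟨even_two, by omega⟩, two_ne_zero⟩))
        · exact Nat.Even.sub_odd (by rw [hqm]; exact Nat.one_le_two_pow) (hqm ▸ Nat.even_pow.2 ⟨even_two, by omega⟩)
            odd_one
      have he := (Q : Subgroup (Y ⧸ center Y)).card_mul_index
      rw [hSz.card, hi, mul_assoc] at he
      rw [hi]
      refine Nat.dvd_antisymm ((Nat.Coprime.pow_left i (Nat.coprime_two_left.2 hodd)).dvd_of_dvd_mul_right (Dvd.intro _ he))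
        (((Nat.coprime_two_left.2 hid).pow_left (2 * m + 1 + (2 * m + 1))).symm.symm.dvd_of_dvd_mul_right
          (n := (Q : Subgroup (Y ⧸ center Y)).index) ?_ |> fun e => by rwa [hqm, pow_two, ← pow_add])
      rw [he, pow_add, ← hqm, ← pow_two]
      exact dvd_mul_right _ _
    set W₀ := (P : Subgroup X).subgroupOf Y with hW₀
    have hWP : ∀ w : W₀, π (w : Y) ∈ (Q : Subgroup (Y ⧸ center Y)) := fun w => (hQ _).2 (mem_subgroupOf.1 w.2)
    set R₀ : Subgroup W₀ := (R.subgroupOf Y).subgroupOf W₀ with hR₀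
    have hR₀mem : ∀ {w : W₀}, w ∈ R₀ ↔ ((w : Y) : X) ∈ R := fun {w} => mem_subgroupOf.trans mem_subgroupOf
    haveI : R₀.Normal := ⟨fun r hr w => hR₀mem.2 (by
      simpa using h.inv _ (hPM (mem_subgroupOf.1 w.2)) _ (hR₀mem.1 hr))⟩
    haveI hZn : (Z.subgroupOf (Q : Subgroup (Y ⧸ center Y))).Normal := ⟨fun z hz x => mem_subgroupOf.2 (by
      simp only [Subgroup.coe_mul, Subgroup.coe_inv]
      rw [hSz.central _ (mem_subgroupOf.1 hz) x x.2, mul_inv_cancel_right]
      exact mem_subgroupOf.1 hz)⟩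
    let f : W₀ →* (Q : Subgroup (Y ⧸ center Y)) := (π.comp W₀.subtype).codRestrict _ hWP
    let g₀ := (QuotientGroup.mk' (Z.subgroupOf (Q : Subgroup (Y ⧸ center Y)))).comp f
    have hg₀ : ∀ {w : W₀}, g₀ w = 1 ↔ π (w : Y) ∈ Z := fun {w} =>
      (QuotientGroup.eq_one_iff (f w)).trans mem_subgroupOf
    let φ : W₀ ⧸ R₀ →* (Q : Subgroup (Y ⧸ center Y)) ⧸ Z.subgroupOf (Q : Subgroup (Y ⧸ center Y)) :=
      QuotientGroup.lift R₀ g₀ fun r hr => hg₀.2 (hZm _ (hR₀mem.1 hr))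
    have hφ : ∀ w : W₀, φ (QuotientGroup.mk' R₀ w) = g₀ w := fun w => rfl
    obtain ⟨t, ht, htor⟩ := hSz.torus
    obtain ⟨g, rfl⟩ := QuotientGroup.mk'_surjective (center Y) t
    have hgW : ∀ g : Y, π g ∈ normalizer ((Q : Subgroup (Y ⧸ center Y)) : Set (Y ⧸ center Y)) →
        ∀ w ∈ W₀, g * w * g⁻¹ ∈ W₀ := fun g hg w hw => mem_subgroupOf.2 ((hQ _).1 (by
      rw [map_mul, map_mul, map_inv]
      exact (mem_normalizer_iff.1 hg _).1 ((hQ w).2 (mem_subgroupOf.1 hw))))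
    let ν : MulAut W₀ :=
      { toFun := fun w => ⟨g * w * g⁻¹, hgW g ht w w.2⟩
        invFun := fun w => ⟨g⁻¹ * w * g⁻¹⁻¹, hgW g⁻¹ (by rw [map_inv]; exact inv_mem ht) w w.2⟩
        left_inv := fun w => Subtype.ext (by simp [mul_assoc])
        right_inv := fun w => Subtype.ext (by simp [mul_assoc])
        map_mul' := fun v w => Subtype.ext (by simp [mul_assoc]) }
    have hνR : R₀.map ν.toMonoidHom = R₀ := by
      refine eq_of_le_of_card_ge ?_ (card_map_of_injective ν.injective).ge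
      rintro _ ⟨r, hr, rfl⟩
      exact hR₀mem.2 (h.inv _ (hNM g ht) _ (hR₀mem.1 hr))
    let μ : MulAut (W₀ ⧸ R₀) := QuotientGroup.congr R₀ R₀ ν hνR
    have hμ : ∀ w : W₀, μ (QuotientGroup.mk' R₀ w) = QuotientGroup.mk' R₀ (ν w) := fun w => rfl
    have hμi : ∀ (i : ℕ) (w : W₀), (μ^[i]) (QuotientGroup.mk' R₀ w) = QuotientGroup.mk' R₀ ((ν^[i]) w) ∧
        π (((ν^[i]) w : W₀) : Y) = π g ^ i * π (w : Y) * (π g ^ i)⁻¹ := fun i w => by
      induction i with
      | zero => simp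
      | succ i ih =>
        rw [Function.iterate_succ_apply', Function.iterate_succ_apply', ih.1]
        refine ⟨hμ _, ?_⟩
        show π (g * (((ν^[i]) w : W₀) : Y) * g⁻¹) = _
        rw [map_mul, map_mul, map_inv, ih.2, pow_succ']
        group
    have hV : 4 < Nat.card ((Q : Subgroup (Y ⧸ center Y)) ⧸ Z.subgroupOf (Q : Subgroup (Y ⧸ center Y))) := by
      have e := (Z.subgroupOf (Q : Subgroup (Y ⧸ center Y))).card_eq_card_quotient_mul_card_subgroup
      rw [hQcard, Nat.card_congr (subgroupOfEquivOfLe hSz.le).toEquiv, hSz.card_Z, pow_two] at e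
      have hq8 : 2 ^ 3 ≤ q := hqm ▸ Nat.pow_le_pow_right two_pos (by omega)
      rw [Nat.eq_of_mul_eq_mul_right (by omega) e.symm]
      omega
    have hab : ∀ x y : W₀ ⧸ R₀, x * y = y * x := by
      refine commute_of_transitive φ ?_ μ ?_ hV ?_ ?_
      · intro v
        obtain ⟨⟨x, hx⟩, rfl⟩ := QuotientGroup.mk'_surjective _ v
        obtain ⟨y, rfl⟩ := QuotientGroup.mk'_surjective (center Y) x
        exact ⟨QuotientGroup.mk' R₀ ⟨y, mem_subgroupOf.2 ((hQ y).1 hx)⟩, rfl⟩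
      · intro v
        obtain ⟨x, rfl⟩ := QuotientGroup.mk'_surjective _ v
        rw [← map_mul]
        exact (QuotientGroup.eq_one_iff _).2 (mem_subgroupOf.2 (hSz.sq_mem _ x.2))
      · intro v hv
        obtain ⟨w, rfl⟩ := QuotientGroup.mk'_surjective R₀ v
        rw [hφ, hg₀] at hv
        obtain ⟨e, he, hew⟩ := honto _ hv
        have hc : e⁻¹ * (w : Y) ∈ center Y := (QuotientGroup.eq_one_iff _).1 (by
          show π (e⁻¹ * (w : Y)) = 1
          rw [map_mul, map_inv, hew, inv_mul_cancel])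
        have hconj : ∀ u : Y, (u : X) ∈ M → (((w : Y)⁻¹ * (u * w * u⁻¹) : Y) : X) ∈ R := fun u hu => by
          have e1 : (w : Y)⁻¹ * (u * w * u⁻¹) = e⁻¹ * (u * e * u⁻¹) := by
            have hcu := mem_center_iff.1 hc
            rw [show (w : Y) = e * (e⁻¹ * w) by group]
            generalize e⁻¹ * (w : Y) = c at hcu ⊢
            rw [show u * (e * c) * u⁻¹ = u * e * (c * u⁻¹) by group, ← hcu u⁻¹, mul_inv_rev,
              show c⁻¹ * e⁻¹ * (u * e * (u⁻¹ * c)) = c⁻¹ * (e⁻¹ * (u * e * u⁻¹) * c) by group, hcu,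
              inv_mul_cancel_left]
          rw [e1]
          simpa using mul_mem (inv_mem he) (h.inv _ hu _ he)
        refine ⟨?_, fun v' => ?_⟩
        · rw [hμ, QuotientGroup.mk'_eq_mk']
          exact ⟨((ν w)⁻¹ * w), hR₀mem.2 (by
            have := inv_mem (hconj g (hNM g ht))
            show ((((g * (w : Y) * g⁻¹)⁻¹ * w : Y)) : X) ∈ R
            simpa [mul_assoc] using this), by group⟩
        · obtain ⟨x, rfl⟩ := QuotientGroup.mk'_surjective R₀ v'
          rw [← map_mul, ← map_mul, QuotientGroup.mk'_eq_mk']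
          refine ⟨(x * w)⁻¹ * (w * x), hR₀mem.2 ?_, by group⟩
          have := hconj ((x : Y))⁻¹ (by simpa using inv_mem (hPM (mem_subgroupOf.1 x.2)))
          have e2 : (((x * w)⁻¹ * (w * x) : W₀) : Y) = (w : Y)⁻¹ * ((x : Y)⁻¹ * w * (x : Y)⁻¹⁻¹) := by
            simp only [Subgroup.coe_mul, Subgroup.coe_inv]; group
          rw [e2]; exact this
      · intro v v' h1 h1'
        obtain ⟨x, rfl⟩ := QuotientGroup.mk'_surjective R₀ v
        obtain ⟨y, rfl⟩ := QuotientGroup.mk'_surjective R₀ v'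
        rw [hφ, ne_eq, hg₀] at h1 h1'
        obtain ⟨i, hi⟩ := htor _ (hWP x) _ (hWP y) h1 h1'
        refine ⟨i, ?_⟩
        rw [(hμi i x).1, hφ, hφ, ← inv_mul_eq_one, ← map_inv, ← map_mul, hg₀, Subgroup.coe_mul,
          Subgroup.coe_inv, map_mul, map_inv, (hμi i x).2]
        exact hi
    have hcomm : commutator W₀ ≤ R₀ := by
      rw [_root_.commutator_def, Subgroup.commutator_le]
      intro x _ y _
      refine (QuotientGroup.eq_one_iff _).1 ?_
      show QuotientGroup.mk' R₀ ⁅x, y⁆ = 1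
      rw [map_commutatorElement, commutatorElement_eq_one_iff_mul_comm]
      exact hab _ _
    refine (eq_bot_iff_forall _).2 fun c hc => ?_
    have hcP : c ∈ W₀ := mem_subgroupOf.2 (CfsgLib.HallGen.pCore_le_sylow P (hcen c hc))
    have key : ∀ (k : ℕ) (g₀ : Y), g₀⁻¹ * c ^ k * g₀ ∈ W₀ → g₀⁻¹ * c ^ k * g₀ = c ^ k := fun k g₀ _ => by
      rw [mul_assoc, ← mem_center_iff.1 (pow_mem hc k) g₀, inv_mul_cancel_left]
    have ht1 := MonoidHom.transfer_eq_pow (Abelianization.of : W₀ →* Abelianization W₀) c key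
    have ht2 : MonoidHom.transfer (Abelianization.of : W₀ →* Abelianization W₀) c = 1 := by
      haveI := hYc.2.1
      exact Abelianization.commutator_subset_ker _ (Group.IsPerfect.commutator_eq_top (G := Y) ▸ mem_top c)
    rw [ht2] at ht1
    have h3 : (⟨c ^ W₀.index, pow_mem hcP _⟩ : W₀) ∈ R₀ := hcomm (by
      rw [← Abelianization.ker_of]; exact ht1.symm)
    have h4 : ((c ^ W₀.index : Y) : X) = 1 := h.inf_core (hR₀mem.1 h3) (by
      rw [Subgroup.coe_pow]; exact pow_mem (hcen c hc) _)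
    have h5 : ¬ 2 ∣ W₀.index := by
      have h1 := CfsgLib.LocalEvenB.not_dvd_relIndex_inf_of_subnormal P hYc.1
      rwa [Subgroup.inf_relIndex_right] at h1
    obtain ⟨i, hi⟩ := P.isPGroup' ⟨(c : X), mem_subgroupOf.1 hcP⟩
    refine orderOf_eq_one_iff.1 (Nat.eq_one_of_dvd_coprimes
      ((Nat.Prime.coprime_iff_not_dvd Nat.prime_two).2 h5 |>.pow_left i) ?_ ?_)
    · exact orderOf_dvd_of_pow_eq_one (Subtype.ext (by simpa using congrArg Subtype.val hi))
    · exact orderOf_dvd_of_pow_eq_one (Subtype.ext h4)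
  let eY : Y ≃* Y ⧸ center Y := (QuotientGroup.quotientBot.symm).trans (QuotientGroup.quotientMulEquivOfEq hbot.symm)
  refine ⟨Y, hYc, isoSuzuki_congr (h.sec Y hYc) eY, hRY, ?_, hindex, ⟨m, hm, hq.trans hqm⟩,
    fun a ha b hb ha1 hb1 => ?_⟩
  · rw [hq, ← hSz.card, Nat.card_congr eY.toEquiv]
  · obtain ⟨g, hgM, hge⟩ := htrans a ha _ (hZm ⟨b, hRY hb⟩ hb) ha1 fun e => hb1 (hR1 _ hb e)
    have hR' := h.inv _ hgM a ha
    exact ⟨g, hgM, congrArg Subtype.val (hinjR ⟨_, hRY hR'⟩ ⟨b, hRY hb⟩ hR' hb (hge _))⟩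

end BlockCtx

end CfsgLib.ThreePrime.Point
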