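import Cfsg.Agent.Lib.ThreePrime.Point.Basic
import Cfsg.Agent.Lib.ThreePrime.Point.BlockMain
import Cfsg.Agent.Lib.Bender.GroupLemmas
import Cfsg.Agent.Lib.Core.Cores

/-!
Owner: helper29. S0336, slice D: a bad involution normalising `A` centralises it and gives a block.
-/

set_option autoImplicit false
set_option linter.style.haveILetI false
set_option linter.unusedSectionVars false

namespace CfsgLib.ThreePrime

open Subgroup
open CfsgLib.Signalizer (involution_sq involution_ne_one orderOf_eq_two_of orderOf_conj elementary_orderOf)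

universe u

local instance factTwoPointMain : Fact (Nat.Prime 2) := ⟨Nat.prime_two⟩

namespace Point

variable {G : Type u} [Group G] [Finite G] {S : Sylow 2 G} {A : Subgroup G} (hP : Pointed S A)

include hP in
theorem comm_step {c x : G} (hc : c ∈ normalizer (A : Set G)) (hcc : c * c = 1) (hx : x ∈ A) :
    x * (c * x * c⁻¹) ∈ A ∧ c * (x * (c * x * c⁻¹)) = x * (c * x * c⁻¹) * c := by
  have hx' : c * x * c⁻¹ ∈ A := (mem_normalizer_iff.1 hc x).1 hx
  refine ⟨mul_mem hx hx', ?_⟩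
  have hci : c⁻¹ = c := inv_eq_of_mul_eq_one_right hcc
  rw [a_comm hP hx hx']
  conv_rhs => rw [← a_comm hP hx hx']
  calc c * (c * x * c⁻¹ * x) = c * c * x * (c⁻¹ * x) := by group
    _ = x * (c⁻¹ * x) := by rw [hcc, one_mul]
    _ = x * (c * x) := by rw [hci]
    _ = x * (c * x * c⁻¹) * c := by group

include hP in
/-- The facts on a bad involution normalising `A`. -/
theorem bad_spec {c : G} (hc : Bad A c) (hcN : c ∈ normalizer (A : Set G)) :
    c ∈ centralizer (A : Set G) ∧ Nat.card (Fix A c) = Nat.card A ^ 2 + 1 ∧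
      (∀ x ∈ Fix A c, ∃ g ∈ centralizer ({c} : Set G), g • base A = x) ∧
      core c = W0 A ⊓ centralizer ({c} : Set G) ∧
      ∃ K : Subgroup (↥(centralizer ({c} : Set G)) ⧸ Cfsg.oddCore ↥(centralizer ({c} : Set G))),
        Cfsg.IsComponent K ∧ Cfsg.Lie.IsoSuzuki K ∧
          Nat.card K = Nat.card A ^ 2 * (Nat.card A ^ 2 + 1) * (Nat.card A - 1) ∧
          (A.subgroupOf (centralizer ({c} : Set G))).map (QuotientGroup.mk' _) ≤ K := by
  classical
  have hcc : c * c = 1 := involution_sq hc.ord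
  have hc1 : c ≠ 1 := involution_ne_one hc.ord
  have hcA : c ∉ A := fun h => hc.not_le (hP.cent c h hc1)
  set H := centralizer ({c} : Set G) with hH
  set Ac := A ⊓ H with hAc
  have hmemH : ∀ {x : G}, x ∈ H ↔ x * c = c * x := fun {x} => mem_centralizer_singleton_iff
  -- the map onto the fixed elements
  let f : A →* A :=
    { toFun := fun x => ⟨(x : G) * (c * x * c⁻¹), (comm_step hP hcN hcc x.2).1⟩
      map_one' := Subtype.ext (by simp)
      map_mul' := fun x y => Subtype.ext (by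
        show (x : G) * y * (c * ((x : G) * y) * c⁻¹) = (x : G) * (c * x * c⁻¹) * ((y : G) * (c * y * c⁻¹))
        have h1 := a_comm hP y.2 ((mem_normalizer_iff.1 hcN (x : G)).1 x.2)
        calc (x : G) * y * (c * ((x : G) * y) * c⁻¹) = (x : G) * ((y : G) * (c * x * c⁻¹)) * (c * y * c⁻¹) := by group
          _ = _ := by rw [h1]; group) }
  have hfH : ∀ x : A, ((f x : A) : G) ∈ Ac := fun x =>
    ⟨(f x).2, hmemH.2 (comm_step hP hcN hcc x.2).2.symm⟩
  have hker : ∀ x : A, x ∈ f.ker → (x : G) ∈ Ac := fun x hx => by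
    have h1 : (x : G) * (c * x * c⁻¹) = 1 := congrArg Subtype.val hx
    have h2 : c * x * c⁻¹ = x := by
      rw [eq_inv_of_mul_eq_one_right h1, inv_eq_of_mul_eq_one_right (a_sq hP x.2)]
    exact ⟨x.2, hmemH.2 (mul_inv_eq_iff_eq_mul.1 h2).symm⟩
  have hcardAc : 4 ≤ Nat.card Ac ∧ Nat.card Ac ∣ Nat.card A := by
    refine ⟨?_, card_dvd_of_le inf_le_left⟩
    have h1 := f.ker.card_mul_index
    rw [Subgroup.index_ker] at h1
    have h2 : Nat.card f.ker ≤ Nat.card Ac :=
      Nat.card_le_card_of_injective (fun x => (⟨_, hker x.1 x.2⟩ : Ac))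
        fun x y e => Subtype.ext (Subtype.ext (congrArg Subtype.val e :))
    have h3 : Nat.card f.range ≤ Nat.card Ac :=
      Nat.card_le_card_of_injective (fun x => (⟨((x.1 : A) : G), by
        obtain ⟨y, hy⟩ := x.2; rw [← hy]; exact hfH y⟩ : Ac))
        fun x y e => Subtype.ext (Subtype.ext (congrArg Subtype.val e :))
    have h8 := hP.card
    have hdvd : Nat.card Ac ∣ Nat.card A := card_dvd_of_le inf_le_left
    obtain ⟨n, hn⟩ := (CfsgLib.Signalizer.elementary_isPGroup hP.elem).exists_card_eq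
    rw [hn] at hdvd
    obtain ⟨i, -, hi⟩ := (Nat.dvd_prime_pow Nat.prime_two).1 hdvd
    have h4 : Nat.card A ≤ Nat.card Ac * Nat.card Ac := h1 ▸ Nat.mul_le_mul h2 h3
    rcases i with _ | _ | i
    · rw [hi] at h4; omega
    · rw [hi] at h4; omega
    · rw [hi, pow_succ, pow_succ]
      have := Nat.one_le_two_pow (n := i)
      omega
  -- the core fixes the base point
  obtain ⟨⟨e, he⟩, he1⟩ : ∃ e : Ac, e ≠ 1 := by
    haveI : Nontrivial Ac := Finite.one_lt_card_iff_nontrivial.1 (by omega)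
    exact exists_ne 1
  obtain ⟨⟨e', he'⟩, he'1, he'e⟩ : ∃ b : Ac, b ≠ 1 ∧ b ≠ ⟨e, he⟩ := by
    by_contra h
    push Not at h
    have : Nat.card Ac ≤ Nat.card Bool := Nat.card_le_card_of_surjective
      (fun x : Bool => if x then (1 : Ac) else ⟨e, he⟩) fun z => by
        by_cases hz : z = 1
        · exact ⟨true, hz.symm⟩
        · exact ⟨false, (h z hz).symm⟩
    rw [Nat.card_eq_fintype_card (α := Bool), Fintype.card_bool] at this
    omega
  have hcoreW : core c ≤ W0 A := by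
    have hnorm : ∀ y ∈ Ac, y ∈ normalizer (core c : Set G) := fun y hy => by
      refine mem_normalizer_iff_map_conj_eq.2 ?_
      have h1 := CfsgLib.Bender.Dichotomy.core2_conj c y
      rw [hmemH.1 hy.2, mul_inv_cancel_right] at h1
      exact h1.symm
    refine CfsgLib.Bender.le_of_four_centralizers (CfsgLib.Bender.Dichotomy.odd_core2 c)
      (elementary_orderOf hP.elem he.1 fun h => he1 (Subtype.ext h))
      (elementary_orderOf hP.elem he'.1 fun h => he'1 (Subtype.ext h)) (a_comm hP he.1 he'.1)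
      (fun h => he'e (Subtype.ext h.symm)) (hnorm e he) (hnorm e' he') fun x hx a ha hxa => ?_
    obtain ⟨haA, ha1⟩ : a ∈ Ac ∧ a ≠ 1 := by
      rcases ha with rfl | rfl | rfl
      · exact ⟨he, fun h => he1 (Subtype.ext h)⟩
      · exact ⟨he', fun h => he'1 (Subtype.ext h)⟩
      · refine ⟨mul_mem he he', fun h => he'e (Subtype.ext ?_)⟩
        show e' = e
        rw [eq_inv_of_mul_eq_one_right h, inv_eq_of_mul_eq_one_right (a_sq hP he.1)]
    exact core_le_W0 hP haA.1 ha1 (hP.cores.balance c a hc.ord (elementary_orderOf hP.elem haA.1 ha1)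
      (hmemH.1 haA.2).symm ⟨hx, mem_centralizer_singleton_iff.2 hxa⟩)
  have hcore : core c = W0 A ⊓ centralizer ({c} : Set G) := by
    refine le_antisymm (le_inf hcoreW (CfsgLib.Bender.Dichotomy.core2_le c)) ?_
    set V := Ac ⊔ zpowers c with hV
    have hVe : Cfsg.IsElementaryAbelian 2 V := CfsgLib.Bender.Dichotomy.elem_sup_zpowers
      (CfsgLib.Signalizer.elementary_of_le hP.elem inf_le_left) hcc fun a ha => hmemH.1 ha.2
    have hlt : Ac < V := lt_of_le_of_ne le_sup_left fun h =>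
      hcA ((h.symm ▸ mem_sup_right (mem_zpowers c) : c ∈ Ac)).1
    have hV8 : 8 ≤ Nat.card V := by
      obtain ⟨i, hi⟩ := (CfsgLib.Signalizer.elementary_isPGroup hVe).exists_card_eq
      have h1 : Nat.card Ac < Nat.card V :=
        lt_of_le_of_ne (card_le_of_le hlt.le) fun h => hlt.ne (eq_of_le_of_card_ge hlt.le h.ge)
      have h2 : 2 ^ 2 < 2 ^ i := by rw [← hi]; omega
      rw [hi]
      exact Nat.pow_le_pow_right two_pos ((Nat.pow_lt_pow_iff_right one_lt_two).1 h2)
    rw [← hP.cores.four A hP.elem hP.card Ac inf_le_left hcardAc.1, hP.cores.four V hVe hV8 Ac le_sup_left hcardAc.1,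
      hP.cores.inf V hVe hV8 c (mem_sup_right (mem_zpowers c)) hc1]
  -- the quotient by the core
  set O := Cfsg.oddCore H with hO
  set π := QuotientGroup.mk' O with hπ
  have hOW : ∀ o : H, o ∈ O → (o : G) ∈ W0 A := fun o ho => hcoreW ⟨o, ho, rfl⟩
  have hOM : O ≤ (pM A).subgroupOf H := fun o ho => mem_subgroupOf.2 (mem_sup_right (hOW o ho))
  set Mb := ((pM A).subgroupOf H).map π with hMb
  set Rb := (A.subgroupOf H).map π with hRb
  have hmemMb : ∀ h : H, π h ∈ Mb ↔ (h : G) ∈ pM A := fun h => by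
    refine ⟨?_, fun hh => ⟨h, mem_subgroupOf.2 hh, rfl⟩⟩
    rintro ⟨m, hm, he⟩
    have h1 : m⁻¹ * h ∈ (pM A).subgroupOf H := hOM ((QuotientGroup.eq_one_iff _).1 (by
      show π (m⁻¹ * h) = 1
      rw [map_mul, map_inv, he, inv_mul_cancel]))
    have := mul_mem hm h1
    rw [mul_inv_cancel_left] at this
    exact mem_subgroupOf.1 this
  have hmodO : ∀ {x y : H}, π x = π y → (x : G)⁻¹ * y ∈ W0 A := fun {x y} e =>
    hOW (x⁻¹ * y) ((QuotientGroup.eq_one_iff _).1 (by
      show π (x⁻¹ * y) = 1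
      rw [map_mul, map_inv, e, inv_mul_cancel]))
  have hinjA : ∀ a b : H, (a : G) ∈ A → (b : G) ∈ A → π a = π b → a = b := fun a b ha hb e =>
    Subtype.ext (eq_of_mod_W0 hP ha hb (hmodO e))
  have hctx : BlockCtx Mb Rb := by
    refine ⟨fun e => hc.not_le fun x hx => (hmemMb ⟨x, hx⟩).1 (e ▸ mem_top _), ?_, ?_, ?_, ?_, ?_, ?_,
      fun Y hY => hP.hyp.component_isSz hc.ord Y hY⟩
    · rintro _ ⟨a, ha, rfl⟩
      exact (hmemMb a).2 (a_le_pM hP (mem_subgroupOf.1 ha))
    · intro m' hm' b hb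
      obtain ⟨m, hm, rfl⟩ := hm'
      obtain ⟨a, ha, rfl⟩ := hb
      obtain ⟨a', ha', hw⟩ := conj_A hP (mem_subgroupOf.1 hm) (mem_subgroupOf.1 ha)
      set x : H := m * a * m⁻¹ with hx
      have hw' : a'⁻¹ * (x : G) ∈ W0 A := hw
      set w := a'⁻¹ * (x : G) with hwdef
      have hca' : c * a' * c⁻¹ ∈ A := (mem_normalizer_iff.1 hcN a').1 ha'
      have heq : a' = c * a' * c⁻¹ := eq_of_mod_W0 hP ha' hca' (by
        have hxc : c * (x : G) * c⁻¹ = x := by rw [← hmemH.1 x.2, mul_inv_cancel_right]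
        have h1 : a'⁻¹ * (c * a' * c⁻¹) = w * (c * w * c⁻¹)⁻¹ := by
          rw [hwdef]
          calc a'⁻¹ * (c * a' * c⁻¹) = a'⁻¹ * (x : G) * (x : G)⁻¹ * (c * a' * c⁻¹) := by group
            _ = a'⁻¹ * (x : G) * (c * (x : G) * c⁻¹)⁻¹ * (c * a' * c⁻¹) := by rw [hxc]
            _ = _ := by group
        rw [h1]
        exact mul_mem hw' (inv_mem (conj_W0 hP hcN hw')))
      have ha'H : a' ∈ H := hmemH.2 (by
        conv_lhs => rw [heq]
        group)
      refine ⟨⟨a', ha'H⟩, mem_subgroupOf.2 ha', ?_⟩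
      rw [← map_inv, ← map_mul, ← map_mul, ← hx, ← inv_mul_eq_one, ← map_inv, ← map_mul]
      refine (QuotientGroup.eq_one_iff _).2 ?_
      have h3 : ((⟨a', ha'H⟩ : H)⁻¹ * x : H).1 ∈ core c := by
        rw [hcore]
        exact ⟨hw', ((⟨a', ha'H⟩ : H)⁻¹ * x).2⟩
      obtain ⟨o, ho, hoe⟩ := h3
      rwa [← Subtype.ext (show ((o : H) : G) = _ from hoe)]
    · rintro _ ⟨a, ha, rfl⟩
      rw [← map_mul, show a * a = 1 from Subtype.ext (a_sq hP (mem_subgroupOf.1 ha)), map_one]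
    · intro hbot
      have h1 : π ⟨e, he.2⟩ ∈ Rb := ⟨_, mem_subgroupOf.2 he.1, rfl⟩
      rw [hbot, mem_bot, ← map_one π] at h1
      exact he1 (Subtype.ext (congrArg Subtype.val (hinjA _ 1 he.1 (one_mem _) h1) :))
    · rintro _ ⟨a, ha, rfl⟩ ha1 x hx
      obtain ⟨h, rfl⟩ := QuotientGroup.mk'_surjective O x
      rw [← map_inv, ← map_mul, ← map_mul, hmemMb] at hx
      refine (hmemMb h).2 (mem_pM_of_conj hP (mem_subgroupOf.1 ha) (fun e' => ha1 ?_) hx)
      rw [show a = 1 from Subtype.ext e', map_one]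
    · exact CfsgLib.Core.pPrimeCore_quotient_pPrimeCore 2 H
  obtain ⟨K, hKc, hKs, hRK, hKcard, hidx, ⟨m₀, hm₀, hr⟩, htrans⟩ := hctx.component_spec
  have hcardRb : Nat.card Rb = Nat.card Ac := by
    refine (Nat.card_eq_of_bijective (fun a : Ac => (⟨π ⟨a, a.2.2⟩, ⟨⟨a, a.2.2⟩, mem_subgroupOf.2 a.2.1, rfl⟩⟩ : Rb))
      ⟨fun a b e => ?_, fun z => ?_⟩).symm
    · exact Subtype.ext (congrArg Subtype.val
        (hinjA ⟨a, a.2.2⟩ ⟨b, b.2.2⟩ a.2.1 b.2.1 (congrArg Subtype.val e)) :)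
    · obtain ⟨a, ha, hae⟩ := z.2
      exact ⟨⟨a, mem_subgroupOf.1 ha, a.2⟩, Subtype.ext hae⟩
  obtain ⟨k, hk⟩ := card_A hP
  -- `c` centralises `A`
  have hall : A ≤ H := by
    by_contra hnot
    obtain ⟨x₀, hx₀A, hx₀H⟩ := Set.not_subset.1 hnot
    have hf1 : f ⟨x₀, hx₀A⟩ ≠ 1 := fun e => hx₀H (hker ⟨x₀, hx₀A⟩ e).2
    set a₀ : H := ⟨((f ⟨x₀, hx₀A⟩ : A) : G), (hfH _).2⟩ with ha₀
    have hsurj : ∀ b ∈ Ac, ∃ x : A, ((f x : A) : G) = b := by
      intro b hb
      by_cases hb1 : b = 1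
      · exact ⟨1, by rw [map_one, hb1]; rfl⟩
      obtain ⟨m', hm', hme⟩ := htrans (π a₀) ⟨a₀, mem_subgroupOf.2 (hfH _).1, rfl⟩ (π ⟨b, hb.2⟩)
        ⟨_, mem_subgroupOf.2 hb.1, rfl⟩
        (fun e => hf1 (Subtype.ext (congrArg Subtype.val (hinjA a₀ 1 (hfH _).1 (one_mem _) (e.trans (map_one π).symm)) :)))
        (fun e => hb1 (congrArg Subtype.val (hinjA ⟨b, hb.2⟩ 1 hb.1 (one_mem _) (e.trans (map_one π).symm)) :))
      obtain ⟨h, hh, rfl⟩ := hm'
      rw [← map_inv, ← map_mul, ← map_mul] at hme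
      have hM := mem_subgroupOf.1 hh
      obtain ⟨x', hx', hw₁⟩ := conj_A hP hM hx₀A
      refine ⟨⟨x', hx'⟩, (eq_of_mod_W0 hP hb.1 (comm_step hP hcN hcc hx').1 ?_).symm⟩
      show b⁻¹ * (x' * (c * x' * c⁻¹)) ∈ W0 A
      set w := x'⁻¹ * ((h : G) * x₀ * (h : G)⁻¹) with hw
      have hhc : c * (h : G) = h * c := (hmemH.1 h.2).symm
      have hcx' : c * x' * c⁻¹ ∈ A := (mem_normalizer_iff.1 hcN x').1 hx'
      have hy : (h : G) * (a₀ : G) * (h : G)⁻¹ = x' * w * ((c * x' * c⁻¹) * (c * w * c⁻¹)) := by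
        have h1 : c * x' * c⁻¹ * (c * w * c⁻¹) = (h : G) * (c * x₀ * c⁻¹) * (h : G)⁻¹ := by
          rw [hw]
          calc c * x' * c⁻¹ * (c * (x'⁻¹ * ((h : G) * x₀ * (h : G)⁻¹)) * c⁻¹)
              = c * (h : G) * x₀ * (c * (h : G))⁻¹ := by group
            _ = _ := by rw [hhc]; group
        rw [h1, hw]
        show (h : G) * (x₀ * (c * x₀ * c⁻¹)) * (h : G)⁻¹ = _
        group
      have h2 : (x' * (c * x' * c⁻¹))⁻¹ * ((h : G) * (a₀ : G) * (h : G)⁻¹) ∈ W0 A := by
        rw [hy, show (x' * (c * x' * c⁻¹))⁻¹ * (x' * w * (c * x' * c⁻¹ * (c * w * c⁻¹))) =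
          (c * x' * c⁻¹)⁻¹ * w * (c * x' * c⁻¹) * (c * w * c⁻¹) by group]
        refine mul_mem ?_ (conj_W0 hP hcN hw₁)
        have := conj_W0 hP (a_le_norm hP (inv_mem hcx')) hw₁
        rwa [inv_inv] at this
      have h3 : ((h : G) * (a₀ : G) * (h : G)⁻¹)⁻¹ * b ∈ W0 A := hmodO hme
      have h4 := inv_mem (mul_mem h2 h3)
      rwa [mul_assoc (x' * (c * x' * c⁻¹))⁻¹, mul_inv_cancel_left, mul_inv_rev, inv_inv] at h4
    have h1 : Nat.card f.range = Nat.card Ac := Nat.card_eq_of_bijective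
      (fun x : f.range => (⟨((x.1 : A) : G), by obtain ⟨y, hy⟩ := x.2; rw [← hy]; exact hfH y⟩ : Ac))
      ⟨fun x y e => Subtype.ext (Subtype.ext (congrArg Subtype.val e :)), fun b => by
        obtain ⟨x, hx⟩ := hsurj b b.2
        exact ⟨⟨f x, x, rfl⟩, Subtype.ext hx⟩⟩
    have h2 : Nat.card f.ker = Nat.card Ac := by
      refine Nat.card_eq_of_bijective (fun x => (⟨_, hker x.1 x.2⟩ : Ac))
        ⟨fun x y e => Subtype.ext (Subtype.ext (congrArg Subtype.val e :)), fun b => ⟨⟨⟨b, b.2.1⟩, ?_⟩, rfl⟩⟩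
      refine Subtype.ext ?_
      show (b : G) * (c * b * c⁻¹) = 1
      rw [← hmemH.1 b.2.2, mul_inv_cancel_right, a_sq hP b.2.1]
    have h3 := f.ker.card_mul_index
    rw [Subgroup.index_ker, h1, h2, ← hcardRb, hr, hk, ← pow_add] at h3
    have := Nat.pow_right_injective le_rfl h3
    omega
  have hAcA : Ac = A := inf_eq_left.2 hall
  rw [hcardRb, hAcA] at hKcard hidx
  -- the orbit
  have htr : ∀ x ∈ Fix A c, ∃ g ∈ H, g • base A = x := by
    intro x hx
    induction x using QuotientGroup.induction_on with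
    | _ g =>
      have e : ((g : G) : Pts A) = g • base A := by
        rw [MulAction.Quotient.smul_coe, smul_eq_mul, mul_one]
      rw [e, mem_fix hP] at hx
      rw [e]
      have hSM := (s_le_norm hP).trans (norm_le hP)
      obtain ⟨m₁, hm₁, hm₁S⟩ := exists_into hP hSM hc.mem (pgroup_of_sq hP hcc)
      obtain ⟨m₂, hm₂, hm₂S⟩ := exists_into hP hSM hx (pgroup_of_sq hP (by
        have := sq_conj hP hcc g⁻¹; rwa [inv_inv] at this))
      rw [show m₂ * (g⁻¹ * c * g) * m₂⁻¹ =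
        m₂ * g⁻¹ * m₁⁻¹ * (m₁ * c * m₁⁻¹) * (m₂ * g⁻¹ * m₁⁻¹)⁻¹ by group] at hm₂S
      obtain ⟨n, hn, hne⟩ := hP.ctrl _ hm₁S _ hm₂S
      set m := m₂⁻¹ * n * m₁ with hm
      have hmM : m ∈ pM A := mul_mem (mul_mem (inv_mem hm₂) (norm_le hP hn)) hm₁
      refine ⟨g * m, hmemH.2 ?_, ?_⟩
      · calc g * m * c = g * m₂⁻¹ * (n * (m₁ * c * m₁⁻¹) * n⁻¹) * (n * m₁) := by rw [hm]; group
          _ = g * m₂⁻¹ * (m₂ * g⁻¹ * m₁⁻¹ * (m₁ * c * m₁⁻¹) * (m₂ * g⁻¹ * m₁⁻¹)⁻¹) * (n * m₁) := by rw [hne]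
          _ = c * (g * m) := by rw [hm]; group
      · rw [mul_smul]
        congr 1
        rw [MulAction.Quotient.smul_coe, smul_eq_mul, mul_one]
        exact QuotientGroup.eq.2 (by simpa using hmM)
  have hcardfix : Nat.card (Fix A c) = Nat.card A ^ 2 + 1 := by
    rw [← hidx, hMb, Subgroup.index_map_eq _ (QuotientGroup.mk'_surjective O) (by rw [QuotientGroup.ker_mk']; exact hOM)]
    have hfixed : ∀ g : H, (g : G) • base A ∈ Fix A c := fun g => by
      rw [mem_fix hP, mul_assoc, ← hmemH.1 g.2, inv_mul_cancel_left]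
      exact hc.mem
    refine (Nat.card_eq_of_bijective (Quotient.lift
      (fun g : H => (⟨(g : G) • base A, hfixed g⟩ : Fix A c)) ?_) ⟨?_, ?_⟩).symm
    · intro g g' hgg
      refine Subtype.ext ?_
      show (g : G) • base A = (g' : G) • base A
      rw [MulAction.Quotient.smul_coe, MulAction.Quotient.smul_coe, smul_eq_mul, smul_eq_mul, mul_one, mul_one]
      exact QuotientGroup.eq.2 (mem_subgroupOf.1 (QuotientGroup.leftRel_apply.1 hgg))
    · intro x y
      induction x using Quotient.inductionOn with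
      | _ x =>
        induction y using Quotient.inductionOn with
        | _ y =>
          intro hxy
          have h := congrArg Subtype.val hxy
          simp only [Quotient.lift_mk, MulAction.Quotient.smul_coe, smul_eq_mul, mul_one] at h
          exact QuotientGroup.eq.2 (mem_subgroupOf.2 (QuotientGroup.eq.1 h))
    · rintro ⟨x, hx⟩
      obtain ⟨g, hg, he⟩ := htr x hx
      exact ⟨Quotient.mk'' ⟨g, hg⟩, Subtype.ext he⟩
  exact ⟨mem_centralizer_iff.2 fun a ha => hmemH.1 (hall ha), hcardfix, htr, hcore, K, hKc, hKs, hKcard, hRK⟩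

include hP in
/-- The facts on the block of a bad involution normalising `A`. -/
theorem blockFacts {c : G} (hc : Bad A c) (hcN : c ∈ normalizer (A : Set G)) : BlockFacts A c := by
  obtain ⟨-, hcard, htr, hcore, hcomp⟩ := bad_spec hP hc hcN
  refine ⟨hcard, htr, hcore, hcomp, fun w hw hw2 _ => ?_⟩
  have hsub : Fix A c ⊆ Fix A w := fun x hx => (mem_fixingSubgroup_iff G).1 hw x hx
  have hbase : base A ∈ Fix A c := by
    rw [show base A = (1 : G) • base A from (one_smul G _).symm, mem_fix hP]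
    simpa using hc.mem
  have hwM : w ∈ pM A := by
    have := hsub hbase
    rw [show base A = (1 : G) • base A from (one_smul G _).symm, mem_fix hP] at this
    simpa using this
  -- a second fixed point
  obtain ⟨x, hx, hxb⟩ : ∃ x ∈ Fix A c, x ≠ base A := by
    by_contra h
    push Not at h
    have h1 : Nat.card (Fix A c) ≤ Nat.card PUnit.{1} := Nat.card_le_card_of_injective (fun _ => PUnit.unit)
      fun a b _ => Subtype.ext ((h a a.2).trans (h b b.2).symm)
    rw [hcard, Nat.card_eq_fintype_card (α := PUnit.{1}), Fintype.card_punit] at h1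
    have h8 := hP.card
    nlinarith
  have hbad : Bad A w := by
    refine ⟨hw2, hwM, fun hgood => ?_⟩
    induction x using QuotientGroup.induction_on with
    | _ g =>
      have e : ((g : G) : Pts A) = g • base A := by
        rw [MulAction.Quotient.smul_coe, smul_eq_mul, mul_one]
      have h1 := hsub hx
      rw [e, mem_fix hP] at h1
      refine hxb (QuotientGroup.eq.2 ?_)
      have h2 := mem_pM_of_good hP (involution_sq hw2) hwM hgood (g := g⁻¹) (by rwa [inv_inv])
      simpa using h2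
  obtain ⟨m, hm, hmS⟩ := exists_into hP ((s_le_norm hP).trans (norm_le hP)) hwM (pgroup_of_sq hP (involution_sq hw2))
  obtain ⟨-, hcard', -⟩ := bad_spec hP (bad_conj hP hbad hm) (s_le_norm hP hmS)
  have hwcard : Nat.card (Fix A w) = Nat.card (Fix A c) := by
    rw [hcard, ← hcard']
    refine Nat.card_congr ((MulAction.toPerm m).subtypeEquiv fun y => ?_)
    show w • y = y ↔ (m * w * m⁻¹) • (m • y) = m • y
    rw [mul_smul, mul_smul, inv_smul_smul, smul_left_cancel_iff]
  refine (Set.eq_of_subset_of_ncard_le hsub ?_ (Set.toFinite _)).symm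
  rw [← Nat.card_coe_set_eq, ← Nat.card_coe_set_eq]
  exact le_of_eq hwcard

end Point

/-- **D: the elementary facts about the points.** -/
theorem pointStep : PointStep.{u} := fun _ _ _ _ _ hP =>
  ⟨Point.pM_ne_top hP, fun _ ha ha1 => Point.fix_eq_base hP ha ha1,
    fun _ ha _ hb ha1 hb1 => Point.one_class hP ha hb ha1 hb1, Point.card_A hP, Point.exists_bad hP,
    fun _ hc hcN => ⟨(Point.bad_spec hP hc hcN).1, Point.blockFacts hP hc hcN⟩⟩

end CfsgLib.ThreePrime
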