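import Cfsg.Agent.Lib.ThreePrime.Cores
import Cfsg.Agent.Lib.ThreePrime.Spec
import Cfsg.Agent.Lib.DegreeThreeP.Bender
import Cfsg.Agent.Lib.Bender.Gen.Final

/-!
Owner: helper29. S0336, slice D: the points. The elements of `A` fix one point and form one class; some involution
is bad.
-/

set_option autoImplicit false
set_option linter.style.haveILetI false
set_option linter.unusedSectionVars false

namespace CfsgLib.ThreePrime.Point

open Subgroup
open CfsgLib.Signalizer (involution_sq involution_ne_one involution_inv orderOf_eq_two_of orderOf_conj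
  elementary_comm elementary_orderOf)

universe u

local instance factTwoPointBasic : Fact (Nat.Prime 2) := ⟨Nat.prime_two⟩

/-- The dihedral lemma: two involutions which are not conjugate both commute with a further one, whose product
with the first is conjugate to one of them. -/
theorem exists_between {G : Type u} [Group G] [Finite G] {a b : G} (ha : a * a = 1) (hb : b * b = 1)
    (hn : ∀ g : G, g * a * g⁻¹ ≠ b) :
    ∃ c : G, c ≠ 1 ∧ c * c = 1 ∧ c * a = a * c ∧ c * b = b * c ∧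
      ∃ g : G, g * a * g⁻¹ = c * a ∨ g * b * g⁻¹ = c * a := by
  set d := a * b with hd
  have hai : a⁻¹ = a := inv_eq_of_mul_eq_one_right ha
  have hbi : b⁻¹ = b := inv_eq_of_mul_eq_one_right hb
  have hdi : d⁻¹ = b * a := by rw [hd, mul_inv_rev, hai, hbi]
  have hada : a * d * a⁻¹ = d⁻¹ := by
    rw [hdi, hai, hd, show a * (a * b) * a = (a * a) * (b * a) by group, ha, one_mul]
  have hpow : ∀ n : ℕ, a * d ^ n = (d ^ n)⁻¹ * a := fun n => by
    rw [← inv_pow, ← hada, conj_pow]; group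
  have hjd : ∀ j : ℕ, d ^ j * a * (d ^ j)⁻¹ = d ^ (2 * j) * a := fun j => by
    rw [two_mul, pow_add, mul_assoc, mul_assoc]
    congr 1
    rw [mul_inv_eq_iff_eq_mul, mul_assoc, hpow, mul_inv_cancel_left]
  have hjb : ∀ j : ℕ, d ^ j * b * (d ^ j)⁻¹ = d ^ (2 * j) * b := fun j => by
    have hbd : ∀ n : ℕ, b * d ^ n = (d ^ n)⁻¹ * b := fun n => by
      rw [← inv_pow, show d⁻¹ = b * d * b⁻¹ by
        rw [hdi, hbi, hd, show b * (a * b) * b = b * a * (b * b) by group, hb, mul_one], conj_pow]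
      group
    rw [two_mul, pow_add, mul_assoc, mul_assoc]
    congr 1
    rw [mul_inv_eq_iff_eq_mul, mul_assoc, hbd, mul_inv_cancel_left]
  obtain ⟨k, hk⟩ : 2 ∣ orderOf d := by
    by_contra hodd
    obtain ⟨j, hj⟩ := Nat.odd_iff.2 (Nat.two_dvd_ne_zero.1 hodd)
    refine hn (d ^ j) (hjd j |>.trans ?_)
    have h1 : d ^ (2 * j) * d = 1 := by rw [← pow_succ, ← hj, pow_orderOf_eq_one]
    rw [eq_inv_of_mul_eq_one_left h1, hdi, mul_assoc, ha, mul_one]
  have hk0 : 0 < k := by have := orderOf_pos d; omega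
  have hcc : d ^ k * d ^ k = 1 := by rw [← pow_add, ← two_mul, ← hk, pow_orderOf_eq_one]
  have hci : (d ^ k)⁻¹ = d ^ k := inv_eq_of_mul_eq_one_right hcc
  have hca : d ^ k * a = a * d ^ k := by rw [hpow, hci]
  refine ⟨d ^ k, pow_ne_one_of_lt_orderOf hk0.ne' (by omega), hcc, hca, ?_, ?_⟩
  · have h1 : d ^ k * (a * b) = a * b * d ^ k := (Commute.pow_self d k).eq
    have h2 : a * (d ^ k * b) = a * (b * d ^ k) := by
      rw [← mul_assoc, ← hca, mul_assoc, h1, mul_assoc]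
    exact mul_left_cancel h2
  · obtain ⟨j, rfl⟩ | ⟨j, rfl⟩ := Nat.even_or_odd k
    · exact ⟨d ^ j, Or.inl (by rw [hjd, two_mul])⟩
    · refine ⟨d ^ (j + 1), Or.inr ?_⟩
      rw [hjb, show 2 * (j + 1) = 2 * j + 1 + 1 by ring, pow_succ, mul_assoc]
      congr 1
      rw [hd, mul_assoc, hb, mul_one]

theorem three_dvd_sl {F : Type} [Field F] [Fintype F] :
    3 ∣ Nat.card (Matrix.SpecialLinearGroup (Fin 2) F) := by
  let g : Matrix.SpecialLinearGroup (Fin 2) F := ⟨!![0, -1; 1, -1], by simp [Matrix.det_fin_two]⟩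
  have h3 : g ^ 3 = 1 := by
    refine Subtype.ext ?_
    show (!![(0 : F), -1; 1, -1]) ^ 3 = 1
    rw [pow_succ, pow_two]
    ext i j
    fin_cases i <;> fin_cases j <;> simp [Matrix.mul_apply, Fin.sum_univ_two]
  have h1 : g ≠ 1 := fun e => by
    have := congrArg (fun m : Matrix.SpecialLinearGroup (Fin 2) F => (m : Matrix (Fin 2) (Fin 2) F) 1 0) e
    simp [g] at this
  rw [← orderOf_eq_prime (p := 3) h3 h1]
  exact orderOf_dvd_natCard g

theorem three_dvd_psu {F : Type} [Field F] [Fintype F] {q : ℕ} (hF : Fintype.card F = q ^ 2) (hq : Even q) :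
    3 ∣ Nat.card (Cfsg.PSU 3 F q) := by
  obtain ⟨z, hz, hcard⟩ := CfsgLib.DegreeThreeP.card_psu_three_mul hF
  obtain ⟨p, hp, n, hpn⟩ : ∃ p, p.Prime ∧ ∃ n : ℕ, Fintype.card F = p ^ n := by
    obtain ⟨p, hp⟩ := CharP.exists F
    haveI := hp
    obtain ⟨n, hpr, hn⟩ := FiniteField.card F p
    exact ⟨p, hpr, n, hn⟩
  have hp2 : p = 2 := ((Nat.prime_dvd_prime_iff_eq Nat.prime_two hp).1 (Nat.prime_two.dvd_of_dvd_pow
    (n := n) (hpn ▸ hF ▸ dvd_pow (even_iff_two_dvd.1 hq) two_ne_zero))).symm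
  subst hp2
  obtain ⟨i, -, hqi⟩ := (Nat.dvd_prime_pow Nat.prime_two).1
    (show q ∣ 2 ^ n from ⟨q, by rw [← hpn, hF, pow_two]⟩)
  have h3q : ¬ 3 ∣ q := fun h => by
    have := Nat.prime_three.dvd_of_dvd_pow (n := i) (hqi ▸ h)
    norm_num at this
  have hq0 : 1 ≤ q := by rw [hqi]; exact Nat.one_le_two_pow
  obtain ⟨w, hw⟩ := hz
  obtain ⟨r, rfl⟩ : ∃ r, q = r + 1 := ⟨q - 1, by omega⟩
  have hsub : (r + 1) ^ 2 - 1 = r * (r + 2) := by
    rw [show (r + 1) ^ 2 = r * (r + 2) + 1 by ring, Nat.add_sub_cancel]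
  rw [hsub, show (r + 1) ^ 3 + 1 = (r + 2) * (r ^ 2 + r + 1) by ring] at hcard
  by_cases h3z : 3 ∣ z
  · have h3r : 3 ∣ r + 2 := h3z.trans ⟨w, hw⟩
    have e : Nat.card (Cfsg.PSU 3 F (r + 1)) * z = (r + 2) * ((r + 1) ^ 3 * r * (r ^ 2 + r + 1) * w) * z := by
      rw [hcard]
      calc (r + 1) ^ 3 * (r * (r + 2) * ((r + 2) * (r ^ 2 + r + 1)))
          = (r + 2) * ((r + 1) ^ 3 * r * (r ^ 2 + r + 1)) * (r + 2) := by ring
        _ = (r + 2) * ((r + 1) ^ 3 * r * (r ^ 2 + r + 1)) * (z * w) := by rw [← hw]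
        _ = _ := by ring
    have hz0 : 0 < z := Nat.pos_of_ne_zero fun e => by subst e; omega
    rw [Nat.eq_of_mul_eq_mul_right hz0 e]
    exact h3r.mul_right _
  · have h3 : 3 ∣ r * (r + 2) := by
      rw [Nat.prime_three.dvd_mul]
      omega
    have h4 : 3 ∣ Nat.card (Cfsg.PSU 3 F (r + 1)) * z := by
      rw [hcard]; exact Dvd.dvd.mul_left (h3.mul_right _) _
    exact (Nat.prime_three.dvd_mul.1 h4).resolve_right h3z

variable {G : Type u} [Group G] [Finite G] {S : Sylow 2 G} {A : Subgroup G} (hP : Pointed S A)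
include hP

theorem a_sq {a : G} (ha : a ∈ A) : a * a = 1 := by
  by_cases h1 : a = 1
  · rw [h1, one_mul]
  · exact involution_sq (elementary_orderOf hP.elem ha h1)

theorem a_comm {a b : G} (ha : a ∈ A) (hb : b ∈ A) : a * b = b * a := elementary_comm hP.elem ha hb

theorem a_le_norm : A ≤ normalizer (A : Set G) := le_normalizer

theorem s_le_norm : (S : Subgroup G) ≤ normalizer (A : Set G) := by
  have key : ∀ s ∈ (S : Subgroup G), ∀ a ∈ A, s * a * s⁻¹ ∈ A := fun s hs a ha =>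
    hP.closed.2 a ha s (mul_mem (mul_mem hs (hP.le ha)) (inv_mem hs))
  exact fun s hs => mem_normalizer_iff.2 fun a => ⟨key s hs a, fun ha => by
    simpa [mul_assoc] using key s⁻¹ (inv_mem hs) _ ha⟩

theorem norm_le : normalizer (A : Set G) ≤ pM A := le_sup_left

theorem a_le_pM : A ≤ pM A := le_normalizer.trans (norm_le hP)

theorem core_le_W0 {a : G} (ha : a ∈ A) (ha1 : a ≠ 1) : core a ≤ W0 A :=
  le_iSup (fun a : {a : G // a ∈ A ∧ a ≠ 1} => core (a : G)) ⟨a, ha, ha1⟩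

theorem conj_W0 {n w : G} (hn : n ∈ normalizer (A : Set G)) (hw : w ∈ W0 A) : n * w * n⁻¹ ∈ W0 A := by
  have hle : W0 A ≤ (W0 A).comap (MulAut.conj n).toMonoidHom := iSup_le fun a => fun x hx => by
    have h1 : n * x * n⁻¹ ∈ core (n * (a : G) * n⁻¹) := by
      show _ ∈ CfsgLib.Bender.Dichotomy.core2 (n * (a : G) * n⁻¹)
      rw [CfsgLib.Bender.Dichotomy.core2_conj]
      exact ⟨x, hx, rfl⟩
    exact core_le_W0 hP ((mem_normalizer_iff.1 hn _).1 a.2.1) (fun e => a.2.2 (conj_eq_one_iff.1 e)) h1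
  exact hle hw

theorem norm_le_normW0 : normalizer (A : Set G) ≤ normalizer (W0 A : Set G) := fun n hn =>
  mem_normalizer_iff.2 fun w => ⟨conj_W0 hP hn, fun hw => by
    simpa [mul_assoc] using conj_W0 hP (inv_mem hn) hw⟩

theorem pM_le_normW0 : pM A ≤ normalizer (W0 A : Set G) := sup_le (norm_le_normW0 hP) le_normalizer

theorem conj_W0' {m w : G} (hm : m ∈ pM A) (hw : w ∈ W0 A) : m * w * m⁻¹ ∈ W0 A :=
  (mem_normalizer_iff.1 (pM_le_normW0 hP hm) w).1 hw

theorem odd_W0 : Odd (Nat.card (W0 A)) := hP.cores.odd A hP.elem hP.card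

theorem inf_W0 {a : G} (ha : a ∈ A) (hw : a ∈ W0 A) : a = 1 := by
  by_contra h1
  have h2 := orderOf_dvd_natCard (W0 A) hw
  rw [elementary_orderOf hP.elem ha h1] at h2
  exact (odd_W0 hP).not_two_dvd_nat h2

theorem eq_of_mod_W0 {a b : G} (ha : a ∈ A) (hb : b ∈ A) (h : a⁻¹ * b ∈ W0 A) : a = b :=
  inv_mul_eq_one.1 (inf_W0 hP (mul_mem (inv_mem ha) hb) h)

theorem conj_A {m a : G} (hm : m ∈ pM A) (ha : a ∈ A) : ∃ a' ∈ A, a'⁻¹ * (m * a * m⁻¹) ∈ W0 A := by
  have hm' : m ∈ ((normalizer (A : Set G) ⊔ W0 A : Subgroup G) : Set G) := hm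
  rw [Subgroup.coe_mul_of_left_le_normalizer_right _ _ (norm_le_normW0 hP)] at hm'
  obtain ⟨n, hn, w, hw, rfl⟩ := hm'
  refine ⟨n * a * n⁻¹, (mem_normalizer_iff.1 hn a).1 ha, ?_⟩
  show (n * a * n⁻¹)⁻¹ * (n * w * a * (n * w)⁻¹) ∈ W0 A
  rw [show (n * a * n⁻¹)⁻¹ * (n * w * a * (n * w)⁻¹) = n * ((a⁻¹ * w * a) * w⁻¹) * n⁻¹ by group]
  refine conj_W0 hP hn (mul_mem ?_ (inv_mem hw))
  simpa using conj_W0 hP (a_le_norm hP (inv_mem ha)) hw

/-- A 2-element of a subgroup containing `S` moves into `S`. -/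
theorem exists_into {K : Subgroup G} (hSK : (S : Subgroup G) ≤ K) {x : G} (hx : x ∈ K)
    (hp : IsPGroup 2 (zpowers x)) : ∃ k ∈ K, k * x * k⁻¹ ∈ (S : Subgroup G) := by
  obtain ⟨T, hT⟩ := (hp.comap_subtype (K := K)).exists_le_sylow
  obtain ⟨k, hk⟩ := MulAction.exists_smul_eq K T (S.subtype hSK)
  refine ⟨k, k.2, ?_⟩
  have h1 : k * (⟨x, hx⟩ : K) * k⁻¹ ∈ ((S.subtype hSK : Sylow 2 K) : Subgroup K) := by
    rw [← hk, Sylow.coe_subgroup_smul, Subgroup.mem_pointwise_smul_iff_inv_smul_mem]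
    simpa [MulAut.smul_def, mul_assoc] using hT (mem_zpowers x)
  exact h1

theorem pgroup_of_sq {x : G} (hx : x * x = 1) : IsPGroup 2 (zpowers x) := fun z => by
  obtain ⟨i, hi⟩ := z.2
  refine ⟨1, Subtype.ext ?_⟩
  show (z : G) ^ 2 ^ 1 = 1
  rw [← hi, pow_one, pow_two, ← (Commute.refl x).mul_zpow, hx, one_zpow]

theorem sq_conj {x : G} (hx : x * x = 1) (g : G) : g * x * g⁻¹ * (g * x * g⁻¹) = 1 := by
  rw [show g * x * g⁻¹ * (g * x * g⁻¹) = g * (x * x) * g⁻¹ by group, hx, mul_one, mul_inv_cancel]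

theorem cent_mem {a g : G} (ha : a ∈ A) (ha1 : a ≠ 1) (hg : g * a = a * g) : g ∈ pM A :=
  hP.cent a ha ha1 (mem_centralizer_singleton_iff.2 hg)

/-- An element of `A` fixes the base point only. -/
theorem mem_pM_of_conj {a g : G} (ha : a ∈ A) (ha1 : a ≠ 1) (hg : g * a * g⁻¹ ∈ pM A) : g ∈ pM A := by
  obtain ⟨m, hm, hmS⟩ := exists_into hP ((s_le_norm hP).trans (norm_le hP)) hg
    (pgroup_of_sq hP (sq_conj hP (a_sq hP ha) g))
  rw [show m * (g * a * g⁻¹) * m⁻¹ = m * g * a * (m * g)⁻¹ by group] at hmS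
  obtain ⟨n, hn, hne⟩ := hP.ctrl a (hP.le ha) (m * g) hmS
  have h1 : n⁻¹ * (m * g) ∈ pM A := cent_mem hP ha ha1 (by
    calc n⁻¹ * (m * g) * a = n⁻¹ * (m * g * a * (m * g)⁻¹) * (m * g) := by group
      _ = a * (n⁻¹ * (m * g)) := by rw [← hne]; group)
  have := mul_mem (inv_mem hm) (mul_mem (norm_le hP hn) h1)
  rwa [mul_inv_cancel_left, inv_mul_cancel_left] at this

theorem mem_fix {x g : G} : g • base A ∈ Fix A x ↔ g⁻¹ * x * g ∈ pM A := by
  show x • (g • base A) = g • base A ↔ _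
  rw [MulAction.Quotient.smul_coe, MulAction.Quotient.smul_coe, smul_eq_mul, smul_eq_mul, mul_one,
    QuotientGroup.eq, ← inv_mem_iff, mul_inv_rev, inv_inv, mul_assoc]

theorem fix_eq_base {a : G} (ha : a ∈ A) (ha1 : a ≠ 1) : Fix A a = {base A} := by
  ext x
  induction x using QuotientGroup.induction_on with
  | _ g =>
    have e : ((g : G) : Pts A) = g • base A := by
      rw [MulAction.Quotient.smul_coe, smul_eq_mul, mul_one]
    rw [Set.mem_singleton_iff, e, mem_fix hP]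
    constructor
    · intro h
      have hg := inv_mem (mem_pM_of_conj hP ha ha1 (g := g⁻¹) (by rwa [inv_inv]))
      rw [inv_inv] at hg
      rw [← e]
      exact QuotientGroup.eq.2 (by simpa using hg)
    · intro h
      rw [← e] at h
      have hg : g ∈ pM A := by simpa using QuotientGroup.eq.1 h
      exact mul_mem (mul_mem (inv_mem hg) (a_le_pM hP ha)) hg

theorem pM_ne_top : pM A ≠ ⊤ := by
  intro e
  haveI := hP.hyp.simple
  have hWn : (W0 A).Normal := normalizer_eq_top_iff.1 (top_le_iff.1 (e ▸ pM_le_normW0 hP))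
  obtain ⟨⟨a, ha⟩, ha1⟩ : ∃ a : A, a ≠ 1 := by
    haveI : Nontrivial A := Finite.one_lt_card_iff_nontrivial.1 (by have := hP.card; omega)
    exact exists_ne 1
  have ha1' : a ≠ 1 := fun e => ha1 (Subtype.ext e)
  rcases hWn.eq_bot_or_eq_top with h | h
  · have hAn : A.Normal := normalizer_eq_top_iff.1 (by
      show normalizer (A : Set G) = ⊤
      rw [← e]
      show _ = normalizer (A : Set G) ⊔ W0 A
      rw [h, sup_bot_eq])
    rcases hAn.eq_bot_or_eq_top with h' | h'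
    · exact ha1' (mem_bot.1 (h' ▸ ha))
    · exact hP.hyp.nonab ⟨⟨fun x y => a_comm hP (h' ▸ mem_top x) (h' ▸ mem_top y)⟩⟩
  · exact ha1' (inf_W0 hP ha (h ▸ mem_top a))

/-- Two elements of `A` are conjugate in its normaliser. -/
theorem one_class {a b : G} (ha : a ∈ A) (hb : b ∈ A) (ha1 : a ≠ 1) (hb1 : b ≠ 1) :
    ∃ g ∈ normalizer (A : Set G), g * a * g⁻¹ = b := by
  by_cases hconj : ∃ g : G, g * a * g⁻¹ = b
  · obtain ⟨g, hg⟩ := hconj
    obtain ⟨n, hn, hne⟩ := hP.ctrl a (hP.le ha) g (hg ▸ hP.le hb)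
    exact ⟨n, hn, hne.trans hg⟩
  exfalso
  push Not at hconj
  haveI := hP.hyp.simple
  have hall : ∀ g : G, g * b * g⁻¹ ∈ pM A := by
    intro g
    obtain ⟨c, hc1, hcc, hca, hcb, f, hf⟩ := exists_between (a_sq hP ha) (sq_conj hP (a_sq hP hb) g)
      (fun x e => hconj (g⁻¹ * x) (by
        calc g⁻¹ * x * a * (g⁻¹ * x)⁻¹ = g⁻¹ * (x * a * x⁻¹) * g := by group
          _ = b := by rw [e]; group))
    obtain ⟨a₂, ha₂, f₂, hf₂⟩ : ∃ a₂ ∈ A, ∃ f₂ : G, f₂ * a₂ * f₂⁻¹ = c * a := by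
      rcases hf with hf | hf
      · exact ⟨a, ha, f, hf⟩
      · exact ⟨b, hb, f * g, by rw [← hf]; group⟩
    -- place both in one Sylow subgroup
    have hcom : Commute a (c * a) := by
      show a * (c * a) = c * a * a
      rw [← mul_assoc, ← hca]
    have hel := CfsgLib.Bender.Dichotomy.elem_sup_zpowers (CfsgLib.Bender.Dichotomy.elem_zpowers (a_sq hP ha))
      (show c * a * (c * a) = 1 by rw [← hf₂]; exact sq_conj hP (a_sq hP ha₂) f₂)
      (fun y hy => by
        obtain ⟨j, rfl⟩ := mem_zpowers_iff.1 hy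
        exact (hcom.zpow_left j).eq)
    obtain ⟨T, hT⟩ := (CfsgLib.Signalizer.elementary_isPGroup hel).exists_le_sylow
    obtain ⟨k, hk⟩ := MulAction.exists_smul_eq G T S
    have hmem : ∀ y ∈ (T : Subgroup G), k * y * k⁻¹ ∈ (S : Subgroup G) := fun y hy => by
      rw [← hk, Sylow.coe_subgroup_smul, Subgroup.mem_pointwise_smul_iff_inv_smul_mem]
      simpa [MulAut.smul_def, mul_assoc] using hy
    have h1 : k * a * k⁻¹ ∈ A := hP.closed.2 a ha k (hmem a (hT (mem_sup_left (mem_zpowers a))))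
    have h2 : k * (c * a) * k⁻¹ ∈ A := by
      have h := hmem _ (hT (mem_sup_right (mem_zpowers (c * a))))
      rw [← hf₂] at h ⊢
      rw [show k * (f₂ * a₂ * f₂⁻¹) * k⁻¹ = k * f₂ * a₂ * (k * f₂)⁻¹ by group] at h ⊢
      exact hP.closed.2 a₂ ha₂ _ h
    have h3 : k * c * k⁻¹ ∈ A := by
      have := mul_mem h2 (inv_mem h1)
      rwa [show k * (c * a) * k⁻¹ * (k * a * k⁻¹)⁻¹ = k * c * k⁻¹ by group] at this
    have hkM : k ∈ pM A := mem_pM_of_conj hP ha ha1 (a_le_pM hP h1)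
    -- the centralizer of `c` lies in the point stabiliser
    have h4 : k * (g * b * g⁻¹) * k⁻¹ ∈ pM A := cent_mem hP h3 (fun e => hc1 (conj_eq_one_iff.1 e)) (by
      calc k * (g * b * g⁻¹) * k⁻¹ * (k * c * k⁻¹) = k * (g * b * g⁻¹ * c) * k⁻¹ := by group
        _ = k * (c * (g * b * g⁻¹)) * k⁻¹ := by rw [hcb]
        _ = k * c * k⁻¹ * (k * (g * b * g⁻¹) * k⁻¹) := by group)
    have := mul_mem (mul_mem (inv_mem hkM) h4) hkM
    simpa [mul_assoc] using this
  have hle : normalClosure ({b} : Set G) ≤ pM A := by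
    rw [Subgroup.normalClosure, closure_le]
    intro x hx
    obtain ⟨y, hy, hc⟩ := Group.mem_conjugatesOfSet_iff.1 hx
    obtain ⟨g, hg⟩ := isConj_iff.1 hc
    rw [Set.mem_singleton_iff] at hy
    subst hy
    exact hg ▸ hall g
  rcases (inferInstance : (normalClosure ({b} : Set G)).Normal).eq_bot_or_eq_top with h | h
  · exact hb1 (mem_bot.1 (h ▸ subset_normalClosure rfl))
  · exact pM_ne_top hP (top_le_iff.1 (h ▸ hle))

/-- The order of `A`. -/
theorem card_A : ∃ k, Nat.card A = 2 ^ (2 * k + 1) := by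
  classical
  obtain ⟨n, hn⟩ := (CfsgLib.Signalizer.elementary_isPGroup hP.elem).exists_card_eq
  obtain ⟨⟨a, ha⟩, ha1⟩ : ∃ a : A, a ≠ 1 := by
    haveI : Nontrivial A := Finite.one_lt_card_iff_nontrivial.1 (by have := hP.card; omega)
    exact exists_ne 1
  have ha1' : a ≠ 1 := fun e => ha1 (Subtype.ext e)
  set N := normalizer (A : Set G) with hN
  set C := (centralizer ({a} : Set G)).subgroupOf N with hC
  have hdvd : Nat.card {x : A // x ≠ 1} ∣ Nat.card G := by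
    have e : Nat.card (N ⧸ C) = Nat.card {x : A // x ≠ 1} := by
      refine Nat.card_eq_of_bijective (Quotient.lift (fun g : N => (⟨⟨(g : G) * a * (g : G)⁻¹,
        (mem_normalizer_iff.1 g.2 a).1 ha⟩, fun e => ha1' (conj_eq_one_iff.1 (congrArg Subtype.val e))⟩ :
          {x : A // x ≠ 1})) ?_) ⟨?_, ?_⟩
      · intro g g' hgg
        have h := mem_centralizer_singleton_iff.1 (mem_subgroupOf.1 (QuotientGroup.leftRel_apply.1 hgg))
        refine Subtype.ext (Subtype.ext ?_)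
        show (g : G) * a * (g : G)⁻¹ = (g' : G) * a * (g' : G)⁻¹
        simp only [Subgroup.coe_mul, Subgroup.coe_inv] at h
        calc (g : G) * a * (g : G)⁻¹ = (g : G) * (a * ((g : G)⁻¹ * g')) * (g' : G)⁻¹ := by group
          _ = _ := by rw [← h]; group
      · intro x y
        induction x using Quotient.inductionOn with
        | _ x =>
          induction y using Quotient.inductionOn with
          | _ y =>
            intro hxy
            have h : (x : G) * a * (x : G)⁻¹ = (y : G) * a * (y : G)⁻¹ :=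
              congrArg (fun z : {x : A // x ≠ 1} => ((z.1 : A) : G)) hxy
            refine QuotientGroup.eq.2 (mem_subgroupOf.2 (mem_centralizer_singleton_iff.2 ?_))
            simp only [Subgroup.coe_mul, Subgroup.coe_inv]
            calc (x : G)⁻¹ * y * a = (x : G)⁻¹ * ((y : G) * a * (y : G)⁻¹) * y := by group
              _ = a * ((x : G)⁻¹ * y) := by rw [← h]; group
      · rintro ⟨⟨b, hb⟩, hb1⟩
        obtain ⟨g, hg, he⟩ := one_class hP ha hb ha1' fun e => hb1 (Subtype.ext e)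
        exact ⟨Quotient.mk'' ⟨g, hg⟩, Subtype.ext (Subtype.ext he)⟩
    rw [← e]
    exact (card_quotient_dvd_card C).trans (card_subgroup_dvd_card N)
  haveI := Fintype.ofFinite A
  rw [Nat.card_eq_fintype_card, Fintype.card_subtype_compl, Fintype.card_subtype_eq,
    ← Nat.card_eq_fintype_card, hn] at hdvd
  obtain ⟨j, rfl⟩ | ⟨j, rfl⟩ := Nat.even_or_odd n
  · exfalso
    refine hP.hyp.three ((?_ : 3 ∣ 2 ^ (j + j) - 1).trans hdvd)
    rw [← two_mul, pow_mul]
    have h := Nat.sub_dvd_pow_sub_pow (2 ^ 2) 1 j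
    norm_num at h ⊢
    exact h
  · exact ⟨j, hn⟩

/-- The involutions whose centraliser fixes the base point fix no other. -/
theorem mem_pM_of_good {t g : G} (ht : t * t = 1) (htM : t ∈ pM A) (hgood : centralizer ({t} : Set G) ≤ pM A)
    (hg : g * t * g⁻¹ ∈ pM A) : g ∈ pM A := by
  have hSM := (s_le_norm hP).trans (norm_le hP)
  obtain ⟨m₁, hm₁, hm₁S⟩ := exists_into hP hSM htM (pgroup_of_sq hP ht)
  obtain ⟨m₂, hm₂, hm₂S⟩ := exists_into hP hSM hg (pgroup_of_sq hP (sq_conj hP ht g))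
  rw [show m₂ * (g * t * g⁻¹) * m₂⁻¹ = m₂ * g * m₁⁻¹ * (m₁ * t * m₁⁻¹) * (m₂ * g * m₁⁻¹)⁻¹ by group] at hm₂S
  obtain ⟨n, hn, hne⟩ := hP.ctrl _ hm₁S _ hm₂S
  have h1 : (n * m₁)⁻¹ * (m₂ * g) ∈ pM A := hgood (mem_centralizer_singleton_iff.2 (by
    calc (n * m₁)⁻¹ * (m₂ * g) * t
        = m₁⁻¹ * n⁻¹ * (m₂ * g * m₁⁻¹ * (m₁ * t * m₁⁻¹) * (m₂ * g * m₁⁻¹)⁻¹) * (m₂ * g) := by group
      _ = t * ((n * m₁)⁻¹ * (m₂ * g)) := by rw [← hne]; group))
  have := mul_mem (inv_mem hm₂) (mul_mem (mul_mem (norm_le hP hn) hm₁) h1)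
  rwa [mul_inv_cancel_left, inv_mul_cancel_left] at this

theorem bad_conj {c m : G} (hc : Bad A c) (hm : m ∈ pM A) : Bad A (m * c * m⁻¹) := by
  refine ⟨(orderOf_conj m c).trans hc.ord, mul_mem (mul_mem hm hc.mem) (inv_mem hm), fun h => hc.not_le fun x hx => ?_⟩
  have h1 : m * x * m⁻¹ ∈ pM A := h (mem_centralizer_singleton_iff.2 (by
    rw [show m * x * m⁻¹ * (m * c * m⁻¹) = m * (x * c) * m⁻¹ by group, mem_centralizer_singleton_iff.1 hx]
    group))
  simpa [mul_assoc] using mul_mem (mul_mem (inv_mem hm) h1) hm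

theorem exists_bad : ∃ c, Bad A c ∧ c ∈ normalizer (A : Set G) := by
  by_cases hno : ∃ t, Bad A t
  · obtain ⟨t, ht⟩ := hno
    obtain ⟨m, hm, hmS⟩ := exists_into hP ((s_le_norm hP).trans (norm_le hP)) ht.mem
      (pgroup_of_sq hP (involution_sq ht.ord))
    exact ⟨_, bad_conj hP ht hm, s_le_norm hP hmS⟩
  exfalso
  push Not at hno
  obtain ⟨⟨a, ha⟩, ha1⟩ : ∃ a : A, a ≠ 1 := by
    haveI : Nontrivial A := Finite.one_lt_card_iff_nontrivial.1 (by have := hP.card; omega)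
    exact exists_ne 1
  obtain ⟨⟨b, hb⟩, hb1, hba⟩ : ∃ b : A, b ≠ 1 ∧ b ≠ ⟨a, ha⟩ := by
    by_contra h
    push Not at h
    have : Nat.card A ≤ Nat.card Bool := Nat.card_le_card_of_surjective
      (fun x : Bool => if x then (1 : A) else ⟨a, ha⟩) fun z => by
        by_cases hz : z = 1
        · exact ⟨true, hz.symm⟩
        · exact ⟨false, (h z hz).symm⟩
    rw [Nat.card_eq_fintype_card (α := Bool), Fintype.card_bool] at this
    have := hP.card
    omega
  have ha2 := elementary_orderOf hP.elem ha fun e => ha1 (Subtype.ext e)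
  have hb2 := elementary_orderOf hP.elem hb fun e => hb1 (Subtype.ext e)
  have hSE : Cfsg.IsStronglyEmbedded (pM A) := by
    refine ⟨pM_ne_top hP, even_iff_two_dvd.2 (ha2 ▸ orderOf_dvd_natCard _ (a_le_pM hP ha)), fun g hg => ?_⟩
    rw [← Nat.not_even_iff_odd]
    intro hev
    obtain ⟨z, ⟨hzM, t, htM, htz⟩, hz2⟩ := CfsgLib.Signalizer.exists_involution_of_even hev
    replace htz : g * t * g⁻¹ = z := htz
    have ht2 : orderOf t = 2 := by rw [← hz2, ← htz, orderOf_conj]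
    refine hg (mem_pM_of_good hP (involution_sq ht2) htM ?_ (htz ▸ hzM))
    by_contra h
    exact hno t ⟨ht2, htM, h⟩
  haveI := hP.hyp.simple
  rcases CfsgLib.Bender.family_of_simple CfsgLib.Bender.benderGen hSE
      ⟨a, a_le_pM hP ha, b, a_le_pM hP hb, ha2, hb2, fun e => hba (Subtype.ext e.symm), a_comm hP ha hb⟩ with
    ⟨F, iF, iT, -, -, ⟨e⟩⟩ | ⟨F, iF, iT, q, hq, -, hF, ⟨e⟩⟩ | h
  · exact hP.hyp.three (Nat.card_congr e.toEquiv ▸ three_dvd_sl)
  · exact hP.hyp.three (Nat.card_congr e.toEquiv ▸ three_dvd_psu hF hq)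
  · exact hP.hyp.notSz h

end CfsgLib.ThreePrime.Point
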