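import Cfsg.Agent.Lib.Signalizer.Basic
import Mathlib.GroupTheory.Commutator.Basic
import Mathlib.Algebra.Group.End

/-!
Owner: helper29. S0336, slice D: a central extension of an elementary group of order above four is abelian if an
automorphism fixing the kernel is transitive on the nontrivial classes.
-/

set_option autoImplicit false
set_option linter.style.haveILetI false

namespace CfsgLib.ThreePrime.Point

open scoped commutatorElement

universe u v

theorem commute_of_transitive {W : Type u} [Group W] [Finite W] {V : Type v} [Group V] [Finite V] (π : W →* V)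
    (hπ : Function.Surjective π) (μ : MulAut W) (hV : ∀ x : V, x * x = 1) (hcard : 4 < Nat.card V)
    (hker : ∀ e : W, π e = 1 → μ e = e ∧ ∀ w, w * e = e * w)
    (htr : ∀ x y : W, π x ≠ 1 → π y ≠ 1 → ∃ i : ℕ, π ((μ^[i]) x) = π y) :
    ∀ x y : W, x * y = y * x := by
  classical
  have hinv : ∀ a : V, a⁻¹ = a := fun a => inv_eq_of_mul_eq_one_right (hV a)
  have hVc : ∀ a b : V, a * b = b * a := fun a b => by rw [← hinv (a * b), mul_inv_rev, hinv, hinv]
  have hcom : ∀ x y : W, π ⁅x, y⁆ = 1 := fun x y => by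
    rw [map_commutatorElement, commutatorElement_eq_one_iff_mul_comm]; exact hVc _ _
  have hsq : ∀ x : W, π (x * x) = 1 := fun x => by rw [map_mul, hV]
  have hfl : ∀ x y w : W, ⁅x * y, w⁆ = ⁅x, w⁆ * ⁅y, w⁆ := fun x y w => by
    rw [show ⁅x * y, w⁆ = x * ⁅y, w⁆ * x⁻¹ * ⁅x, w⁆ by simp only [commutatorElement_def]; group,
      (hker _ (hcom y w)).2 x, mul_inv_cancel_right, ((hker _ (hcom y w)).2 ⁅x, w⁆)]
  have hfr : ∀ x y w : W, ⁅w, x * y⁆ = ⁅w, x⁆ * ⁅w, y⁆ := fun x y w => by
    rw [show ⁅w, x * y⁆ = ⁅w, x⁆ * (x * ⁅w, y⁆ * x⁻¹) by simp only [commutatorElement_def]; group,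
      (hker _ (hcom w y)).2 x, mul_inv_cancel_right]
  have he2 : ∀ x y : W, ⁅x, y⁆ * ⁅x, y⁆ = 1 := fun x y => by
    rw [← hfl, commutatorElement_eq_one_iff_mul_comm]
    exact ((hker _ (hsq x)).2 y).symm
  have hsymm : ∀ x y : W, ⁅y, x⁆ = ⁅x, y⁆ := fun x y => by
    rw [← commutatorElement_inv x y]
    exact inv_eq_of_mul_eq_one_right (he2 x y)
  have hcongr : ∀ x a b : W, π a = π b → ⁅a, x⁆ = ⁅b, x⁆ := fun x a b h => by
    have hd : π (b⁻¹ * a) = 1 := by rw [map_mul, map_inv, h, inv_mul_cancel]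
    rw [show a = b * (b⁻¹ * a) by group, hfl, commutatorElement_eq_one_iff_mul_comm.2 ((hker _ hd).2 x).symm,
      mul_one]
  have hiter : ∀ (i : ℕ) (x y : W), ⁅(μ^[i]) x, (μ^[i]) y⁆ = ⁅x, y⁆ := by
    intro i x y
    induction i with
    | zero => rfl
    | succ i ih =>
      rw [Function.iterate_succ_apply', Function.iterate_succ_apply', ← map_commutatorElement, ih]
      exact (hker _ (hcom x y)).1
  have hclass : ∀ x y : W, π x = π y → π (μ x) = π (μ y) := fun x y h => by
    have hd : π (y⁻¹ * x) = 1 := by rw [map_mul, map_inv, h, inv_mul_cancel]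
    rw [show x = y * (y⁻¹ * x) by group, map_mul, map_mul, (hker _ hd).1, hd, mul_one]
  have hclassi : ∀ (i : ℕ) (x y : W), π x = π y → π ((μ^[i]) x) = π ((μ^[i]) y) := by
    intro i x y h
    induction i with
    | zero => exact h
    | succ i ih => rw [Function.iterate_succ_apply', Function.iterate_succ_apply']; exact hclass _ _ ih
  by_contra hne
  push Not at hne
  obtain ⟨x₀, y₀, h₀⟩ := hne
  -- nondegenerate
  have hnd : ∀ x : W, (∀ y : W, ⁅x, y⁆ = 1) → π x = 1 := by
    intro x hx
    by_contra h1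
    by_cases ha : π x₀ = 1
    · exact h₀ ((hker _ ha).2 y₀).symm
    obtain ⟨i, hi⟩ := htr x x₀ h1 ha
    refine h₀ (commutatorElement_eq_one_iff_mul_comm.1 ?_)
    obtain ⟨y, rfl⟩ := (μ.bijective.iterate i).surjective y₀
    rw [hcongr _ _ _ hi.symm, hiter, hx y]
  obtain ⟨v, hv⟩ : ∃ v : W, π v ≠ 1 := ⟨x₀, fun h => h₀ ((hker _ h).2 y₀).symm⟩
  by_cases hfix : π (v * μ v) = 1
  · -- a fixed class
    have h1 : π (μ v) = π v := by rw [map_mul] at hfix; rw [eq_inv_of_mul_eq_one_right hfix, hinv]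
    have hall : ∀ i : ℕ, π ((μ^[i]) v) = π v := fun i => by
      induction i with
      | zero => rfl
      | succ i ih => rw [Function.iterate_succ_apply', hclass _ _ ih, h1]
    have hle : Nat.card V ≤ Nat.card Bool := Nat.card_le_card_of_surjective
      (fun b : Bool => if b then 1 else π v) fun a => by
        by_cases ha : a = 1
        · exact ⟨true, ha.symm⟩
        · obtain ⟨w, rfl⟩ := hπ a
          obtain ⟨i, hi⟩ := htr v w hv ha
          exact ⟨false, (hall i).symm.trans hi⟩
    rw [Nat.card_eq_fintype_card (α := Bool), Fintype.card_bool] at hle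
    omega
  obtain ⟨k, hk⟩ := htr v (v * μ v) hv hfix
  have hk' : ∀ y : W, π ((μ^[k]) y) = π (y * μ y) := by
    intro y
    by_cases hy : π y = 1
    · have hall : ∀ i : ℕ, (μ^[i]) y = y := fun i => by
        induction i with
        | zero => rfl
        | succ i ih => rw [Function.iterate_succ_apply', ih, (hker y hy).1]
      rw [hall, (hker y hy).1, map_mul, hy, one_mul]
    obtain ⟨i, hi⟩ := htr v y hv hy
    have hmul : ∀ (n : ℕ) (a b : W), (μ^[n]) (a * b) = (μ^[n]) a * (μ^[n]) b := fun n a b => by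
      induction n with
      | zero => rfl
      | succ n ih => simp only [Function.iterate_succ_apply', ih, map_mul]
    rw [hclassi k _ _ hi.symm, ← Function.iterate_add_apply, add_comm, Function.iterate_add_apply,
      hclassi i _ _ hk, hmul, map_mul, map_mul, hi, ← hclass _ _ hi, ← Function.iterate_succ_apply,
      Function.iterate_succ_apply']
  have hsum : ∀ x y : W, ⁅x, y⁆ * ⁅x, μ y⁆ * ⁅μ x, y⁆ = 1 := by
    intro x y
    have h0 := hiter k x y
    rw [hcongr _ _ _ (hk' x), hsymm, hcongr _ _ _ (hk' y), hsymm, hfl, hfr, hfr,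
      show ⁅μ x, μ y⁆ = ⁅x, y⁆ from hiter 1 x y] at h0
    rw [← mul_assoc, mul_eq_right] at h0
    exact h0
  have h1 : π (v * μ v * μ (μ v)) = 1 := by
    refine hnd _ fun x => ?_
    have h := hsum x (μ v)
    rw [show ⁅μ x, μ v⁆ = ⁅x, v⁆ from hiter 1 x v] at h
    rw [hfl, hfl, hsymm x v, hsymm x (μ v), hsymm x (μ (μ v)), mul_assoc ⁅x, v⁆]
    exact mul_eq_one_comm.1 h
  have h2 : π (μ (μ (μ v))) = π v := by
    have h2 : π (μ (μ v)) = π (v * μ v) := by
      rw [map_mul] at h1
      rw [eq_inv_of_mul_eq_one_right h1, hinv]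
    rw [hclass _ _ h2, map_mul, map_mul, h2, map_mul, hVc (π v), ← mul_assoc, hV, one_mul]
  have hle : Nat.card V ≤ Nat.card (Option (Fin 3)) := Nat.card_le_card_of_surjective
    (fun o => o.elim 1 fun i => π ((μ^[i.1]) v)) fun a => by
      by_cases ha : a = 1
      · exact ⟨none, ha.symm⟩
      obtain ⟨w, rfl⟩ := hπ a
      obtain ⟨i, hi⟩ := htr v w hv ha
      refine ⟨some ⟨i % 3, Nat.mod_lt _ (by norm_num)⟩, Eq.trans ?_ hi⟩
      show π ((μ^[i % 3]) v) = _
      clear hi
      induction i using Nat.strong_induction_on with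
      | _ i ih =>
        rcases lt_or_ge i 3 with hlt | hge
        · rw [Nat.mod_eq_of_lt hlt]
        · obtain ⟨j, rfl⟩ := Nat.exists_eq_add_of_le' hge
          rw [Nat.add_mod_right, ih j (by omega), Function.iterate_add_apply]
          exact (hclassi j _ _ h2).symm
  rw [Nat.card_eq_fintype_card (α := Option (Fin 3)), Fintype.card_option, Fintype.card_fin] at hle
  omega

end CfsgLib.ThreePrime.Point
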