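import Cfsg.Agent.Lib.ThreePrime.Point.SzPack
import Cfsg.Agent.Lib.ThreePrime.Point.Pairing
import Cfsg.Agent.Lib.Components.FStar
import Cfsg.Agent.Lib.Components.PLayer
import Cfsg.Agent.Lib.Components.SchreierBalance
import Cfsg.Agent.Lib.LocalEvenB.SubnormalSylow
import Cfsg.Agent.Lib.HallGen.Basic
import Mathlib.GroupTheory.Transfer
import Mathlib.GroupTheory.Abelianization.Defs

/-!
Owner: helper29. S0336, slice D: an elementary group of trivial intersection in the centralizer of a bad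
involution, modulo its odd core, is the centre of a Sylow subgroup of the only Suzuki component.
-/

set_option autoImplicit false
set_option linter.style.haveILetI false
set_option linter.unusedSectionVars false

namespace CfsgLib.ThreePrime.Point

open Subgroup
open scoped commutatorElement

universe u

local instance factTwoBlock : Fact (Nat.Prime 2) := ⟨Nat.prime_two⟩

variable {X : Type u} [Group X] [Finite X] {M R : Subgroup X}

/-- A proper subgroup with a normal elementary subgroup whose elements fix one point only. -/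
structure BlockCtx (M R : Subgroup X) : Prop where
  ne_top : M ≠ ⊤
  le : R ≤ M
  inv : ∀ m ∈ M, ∀ a ∈ R, m * a * m⁻¹ ∈ R
  sq : ∀ a ∈ R, a * a = 1
  ne_bot : R ≠ ⊥
  fix : ∀ a ∈ R, a ≠ 1 → ∀ x : X, x * a * x⁻¹ ∈ M → x ∈ M
  odd : Cfsg.oddCore X = ⊥
  sec : ∀ Y : Subgroup X, Cfsg.IsComponent Y → Cfsg.Lie.IsoSuzuki (Y ⧸ center Y)

namespace BlockCtx

variable (h : BlockCtx M R)
include h

theorem inv_eq {a : X} (ha : a ∈ R) : a⁻¹ = a := inv_eq_of_mul_eq_one_right (h.sq a ha)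

theorem comm {a b : X} (ha : a ∈ R) (hb : b ∈ R) : a * b = b * a := by
  rw [← h.inv_eq (mul_mem ha hb), mul_inv_rev, h.inv_eq ha, h.inv_eq hb]

theorem cent {a g : X} (ha : a ∈ R) (ha1 : a ≠ 1) (hg : g * a = a * g) : g ∈ M :=
  h.fix a ha ha1 g (by rw [hg, mul_inv_cancel_right]; exact h.le ha)

theorem exists_sylow : ∃ P : Sylow 2 X, (P : Subgroup X) ≤ M ∧ R ≤ (P : Subgroup X) := by
  classical
  obtain ⟨P₀⟩ := (inferInstance : Nonempty (Sylow 2 M))
  haveI : (R.subgroupOf M).Normal := ⟨fun r hr m => mem_subgroupOf.2 (h.inv m m.2 r (mem_subgroupOf.1 hr))⟩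
  have hRp : IsPGroup 2 (R.subgroupOf M) := fun r => ⟨1, Subtype.ext (Subtype.ext (by
    show ((r : M) : X) ^ 2 ^ 1 = 1
    rw [pow_one, pow_two]
    exact h.sq _ (mem_subgroupOf.1 r.2)))⟩
  have hR0 : R ≤ (P₀ : Subgroup M).map M.subtype := fun a ha =>
    ⟨⟨a, h.le ha⟩, CfsgLib.HallGen.pCore_le_sylow P₀
      (CfsgLib.Components.le_pCore inferInstance hRp (mem_subgroupOf.2 ha)), rfl⟩
  obtain ⟨P, hP⟩ := (P₀.isPGroup'.map M.subtype).exists_le_sylow
  obtain ⟨a, ha, ha1⟩ : ∃ a ∈ R, a ≠ 1 := by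
    by_contra hne
    push Not at hne
    exact h.ne_bot ((eq_bot_iff_forall R).2 hne)
  refine ⟨P, fun x hx => ?_, hR0.trans hP⟩
  by_contra hxM
  haveI : Group.IsNilpotent (P : Subgroup X) := P.isPGroup'.isNilpotent
  set Q := ((P₀ : Subgroup M).map M.subtype).subgroupOf (P : Subgroup X) with hQ
  have hlt : Q < ⊤ := lt_top_iff_ne_top.2 fun e => hxM (by
    have : (⟨x, hx⟩ : (P : Subgroup X)) ∈ Q := e ▸ mem_top _
    obtain ⟨y, -, hy⟩ := mem_subgroupOf.1 this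
    exact (show (y : X) = x from hy) ▸ y.2)
  obtain ⟨p, hpn, hpQ⟩ := SetLike.exists_of_lt (Group.normalizerCondition_of_isNilpotent Q hlt)
  have hpa : (p : X) * a * (p : X)⁻¹ ∈ (P₀ : Subgroup M).map M.subtype :=
    mem_subgroupOf.1 ((mem_normalizer_iff.1 hpn ⟨a, hP (hR0 ha)⟩).1 (mem_subgroupOf.2 (hR0 ha)))
  have hpM : (p : X) ∈ M := h.fix a ha ha1 _ (map_subtype_le _ hpa)
  have hP₁ : IsPGroup 2 ((P : Subgroup X).subgroupOf M) := P.isPGroup'.comap_of_injective M.subtype M.subtype_injective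
  have e := P₀.is_maximal' hP₁ fun y hy => mem_subgroupOf.2 (hP ⟨y, hy, rfl⟩)
  refine hpQ (mem_subgroupOf.2 ⟨⟨p, hpM⟩, ?_, rfl⟩)
  rw [← e]
  exact mem_subgroupOf.2 p.2

theorem core_le : Cfsg.pCore 2 X ≤ M := by
  obtain ⟨P, hP, -⟩ := h.exists_sylow
  exact (CfsgLib.HallGen.pCore_le_sylow P).trans hP

theorem inf_core {a : X} (ha : a ∈ R) (hac : a ∈ Cfsg.pCore 2 X) : a = 1 := by
  by_contra ha1
  exact h.ne_top (eq_top_iff.2 fun x _ => h.fix a ha ha1 x
    (h.core_le ((CfsgLib.Components.pCore_normal 2).conj_mem a hac x)))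

theorem core_comm {a d : X} (ha : a ∈ R) (hd : d ∈ Cfsg.pCore 2 X) : a * d = d * a := by
  have h1 : d * a * d⁻¹ * a⁻¹ ∈ R := mul_mem (h.inv d (h.core_le hd) a ha) (inv_mem ha)
  have h2 : d * a * d⁻¹ * a⁻¹ ∈ Cfsg.pCore 2 X := by
    rw [show d * a * d⁻¹ * a⁻¹ = d * (a * d⁻¹ * a⁻¹) by group]
    exact mul_mem hd ((CfsgLib.Components.pCore_normal 2).conj_mem _ (inv_mem hd) a)
  have := h.inf_core h1 h2
  rw [mul_inv_eq_one, mul_inv_eq_iff_eq_mul] at this
  exact this.symm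

theorem exists_comp : ∃ Y : Subgroup X, Cfsg.IsComponent Y ∧ ∃ a ∈ R, ∃ y ∈ Y, a * y ≠ y * a := by
  by_contra hno
  push Not at hno
  refine h.ne_bot ((eq_bot_iff_forall R).2 fun a ha => h.inf_core ha ?_)
  have hF : Cfsg.fittingSubgroup X = Cfsg.pCore 2 X := CfsgLib.Components.fitting_eq_pCore_of_core_bot h.odd
  set F := Cfsg.generalizedFittingSubgroup X with hFdef
  have hac : a ∈ centralizer (F : Set X) := by
    rw [hFdef, CfsgLib.Components.centralizer_gFitting]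
    refine ⟨?_, mem_centralizer_iff.2 fun d hd => (h.core_comm ha (by rwa [← hF])).symm⟩
    have hle : Cfsg.layer X ≤ centralizer ({a} : Set X) := CfsgLib.Components.layer_le_iff.2 fun Y hY y hy =>
      mem_centralizer_singleton_iff.2 (hno Y hY a ha y hy).symm
    exact mem_centralizer_iff.2 fun y hy => mem_centralizer_singleton_iff.1 (hle hy)
  haveI hFn : F.Normal := CfsgLib.Components.gFitting_normal
  haveI : (centralizer (F : Set X)).Normal := Subgroup.normal_centralizer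
  set Zf := F ⊓ centralizer (F : Set X) with hZf
  haveI : Zf.Normal := Subgroup.normal_inf_normal _ _
  have hnil : Group.IsNilpotent Zf := by
    refine ⟨⟨1, ?_⟩⟩
    rw [Subgroup.upperCentralSeries_one, eq_top_iff]
    exact fun v _ => mem_center_iff.2 fun u => Subtype.ext (mem_centralizer_iff.1 v.2.2 u u.2.1)
  rw [← hF]
  exact CfsgLib.Components.le_fitting inferInstance hnil ⟨CfsgLib.Components.centralizer_gFitting_le hac, hac⟩

/-- The facts on a component. -/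
theorem exists_pack {P : Sylow 2 X} {Y : Subgroup X} (hY : Cfsg.IsComponent Y) :
    ∃ (q : ℕ) (Q : Sylow 2 (Y ⧸ center Y)) (Z : Subgroup (Y ⧸ center Y)),
      SzPack (Y ⧸ center Y) q (Q : Subgroup (Y ⧸ center Y)) Z ∧
      ∀ y : Y, (QuotientGroup.mk' (center Y) y ∈ (Q : Subgroup (Y ⧸ center Y)) ↔ (y : X) ∈ (P : Subgroup X)) := by
  have hp : IsPGroup 2 ((P : Subgroup X).subgroupOf Y) := P.isPGroup'.comap_of_injective Y.subtype Y.subtype_injective
  have hnd : ¬ 2 ∣ ((P : Subgroup X).subgroupOf Y).index := by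
    have h1 := CfsgLib.LocalEvenB.not_dvd_relIndex_inf_of_subnormal P hY.1
    rwa [Subgroup.inf_relIndex_right] at h1
  let Q₀ : Sylow 2 Y := hp.toSylow hnd
  have hsurj : Function.Surjective (QuotientGroup.mk' (center Y)) := QuotientGroup.mk'_surjective _
  obtain ⟨q, Z, hSz⟩ := szPack_of_iso (h.sec Y hY) (Q₀.mapSurjective hsurj)
  refine ⟨q, _, Z, hSz, fun y => ?_⟩
  rw [Sylow.coe_mapSurjective]
  refine ⟨?_, fun hy => ⟨y, mem_subgroupOf.2 hy, rfl⟩⟩
  rintro ⟨s, hs, he⟩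
  have hc : s⁻¹ * y ∈ center Y := (QuotientGroup.eq_one_iff _).1 (by
    show QuotientGroup.mk' (center Y) (s⁻¹ * y) = 1
    rw [map_mul, map_inv, he, inv_mul_cancel])
  have hF : Cfsg.fittingSubgroup X = Cfsg.pCore 2 X := CfsgLib.Components.fitting_eq_pCore_of_core_bot h.odd
  have hcen : (center Y).map Y.subtype ≤ Cfsg.pCore 2 X := by
    rw [← hF]
    refine CfsgLib.Components.subnormal_nilpotent_le_fitting ((Subgroup.Normal.isSubnormal inferInstance).trans' hY.1) ?_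
    refine ⟨⟨1, ?_⟩⟩
    rw [Subgroup.upperCentralSeries_one, eq_top_iff]
    rintro ⟨_, v, hv, rfl⟩ -
    refine mem_center_iff.2 ?_
    rintro ⟨_, w, -, rfl⟩
    exact Subtype.ext (congrArg Subtype.val (mem_center_iff.1 hv w) :)
  have h1 : (y : X) = (s : X) * ((s⁻¹ * y : Y) : X) := by simp
  rw [h1]
  exact mul_mem (mem_subgroupOf.1 hs) (CfsgLib.HallGen.pCore_le_sylow P (hcen ⟨_, hc, rfl⟩))

theorem norm_comp {Y : Subgroup X} (hY : Cfsg.IsComponent Y) {a : X} (ha : a ∈ R) {y : X} (hy : y ∈ Y) :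
    a * y * a⁻¹ ∈ Y := by
  classical
  obtain ⟨P, hPM, hRP⟩ := h.exists_sylow
  obtain ⟨q, Q, Z, hSz, hQ⟩ := h.exists_pack (P := P) hY
  set π := QuotientGroup.mk' (center Y) with hπ
  set Y' := Y.map (MulAut.conj a).toMonoidHom with hY'
  suffices e : Y' = Y by rw [← e]; exact ⟨y, hy, rfl⟩
  have hY'c : Cfsg.IsComponent Y' := CfsgLib.Components.isComponent_conj hY a
  by_contra hne
  have hcom : ∀ u ∈ Y, ∀ v ∈ Y', u * v = v * u := fun u hu v hv =>
    (mem_centralizer_iff.1 (commutator_eq_bot_iff_le_centralizer.1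
      (CfsgLib.Components.components_commute hY hY'c (fun e => hne e.symm)) hu) v hv).symm
  obtain ⟨z, hz, hz1⟩ : ∃ z ∈ Z, z ≠ 1 := by
    obtain ⟨m, hm, hq⟩ := hSz.pow
    by_contra hno
    push Not at hno
    have h1 := hSz.card_Z
    rw [(eq_bot_iff_forall Z).2 hno, Subgroup.card_bot, hq] at h1
    have := Nat.one_lt_two_pow (n := 2 * m + 1) (by omega)
    omega
  obtain ⟨x₁, hx₁, x₂, hx₂, hcm⟩ := hSz.gen z hz
  obtain ⟨y₁, rfl⟩ := QuotientGroup.mk'_surjective (center Y) x₁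
  obtain ⟨y₂, rfl⟩ := QuotientGroup.mk'_surjective (center Y) x₂
  have hw : ∀ u : Y, (u : X) ∈ (P : Subgroup X) →
      (u : X) * (a * (u : X)⁻¹ * a⁻¹) ∈ R ∧ a * (u : X)⁻¹ * a⁻¹ ∈ Y' := fun u hu => by
    refine ⟨?_, ⟨_, inv_mem u.2, rfl⟩⟩
    rw [show (u : X) * (a * (u : X)⁻¹ * a⁻¹) = (u : X) * a * (u : X)⁻¹ * a⁻¹ by group]
    exact mul_mem (h.inv _ (hPM hu) a ha) (inv_mem ha)
  obtain ⟨hu₁, hw₁⟩ := hw y₁ ((hQ y₁).1 hx₁)
  obtain ⟨hu₂, hw₂⟩ := hw y₂ ((hQ y₂).1 hx₂)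
  set w₁ := a * (y₁ : X)⁻¹ * a⁻¹ with hw₁d
  set w₂ := a * (y₂ : X)⁻¹ * a⁻¹ with hw₂d
  have h1 : (y₁ : X) * y₂ * (w₁ * w₂) = y₂ * y₁ * (w₂ * w₁) := by
    have e := h.comm hu₁ hu₂
    rwa [show (y₁ : X) * w₁ * (y₂ * w₂) = y₁ * (w₁ * y₂) * w₂ by group, ← hcom _ y₂.2 _ hw₁,
      show (y₂ : X) * w₂ * (y₁ * w₁) = y₂ * (w₂ * y₁) * w₁ by group, ← hcom _ y₁.2 _ hw₂,
      show (y₁ : X) * (y₂ * w₁) * w₂ = y₁ * y₂ * (w₁ * w₂) by group,
      show (y₂ : X) * (y₁ * w₂) * w₁ = y₂ * y₁ * (w₂ * w₁) by group] at e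
  have h2 : (y₂ * y₁)⁻¹ * (y₁ * y₂) ∈ center Y := by
    refine mem_center_iff.2 fun u => Subtype.ext ?_
    show (u : X) * (((y₂ : X) * y₁)⁻¹ * ((y₁ : X) * y₂)) = ((y₂ : X) * y₁)⁻¹ * ((y₁ : X) * y₂) * u
    have e : ((y₂ : X) * y₁)⁻¹ * ((y₁ : X) * y₂) = w₂ * w₁ * (w₁ * w₂)⁻¹ := by
      rw [eq_mul_inv_iff_mul_eq, mul_assoc, inv_mul_eq_iff_eq_mul]
      exact h1
    rw [e]
    exact hcom _ u.2 _ (mul_mem (mul_mem hw₂ hw₁) (inv_mem (mul_mem hw₁ hw₂)))
  have h3 : π ((y₂ * y₁)⁻¹ * (y₁ * y₂)) = 1 := (QuotientGroup.eq_one_iff _).2 h2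
  rw [map_mul, map_inv, inv_mul_eq_one, map_mul, map_mul] at h3
  refine hz1 (hcm.symm.trans ?_)
  show π y₁ * π y₂ * (π y₁)⁻¹ * (π y₂)⁻¹ = 1
  rw [← h3]
  group

/-- The component moved by `R`. -/
structure Main (M R Y : Subgroup X) (P : Sylow 2 X) : Prop where
  comp : Cfsg.IsComponent Y
  le : R ≤ Y
  not_le : ¬ Y ≤ M
  sylow : (P : Subgroup X) ≤ M

theorem exists_main : ∃ (Y : Subgroup X) (P : Sylow 2 X), Main M R Y P := by
  classical
  obtain ⟨P, hPM, hRP⟩ := h.exists_sylow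
  obtain ⟨Y, hY, a, ha, y₀, hy₀, hay⟩ := h.exists_comp
  obtain ⟨q, Q, Z, hSz, hQ⟩ := h.exists_pack (P := P) hY
  set π := QuotientGroup.mk' (center Y) with hπ
  -- the image of an element of `R` in the automorphisms of the quotient
  have hinner : ∀ b ∈ R, ∃ u : Y, (u : X) ∈ (P : Subgroup X) ∧ π u ∈ Z ∧
      (u : X)⁻¹ * b ∈ centralizer (Y : Set X) := by
    intro b hb
    let ψ : MulAut Y :=
      { toFun := fun u => ⟨b * u * b⁻¹, h.norm_comp hY hb u.2⟩
        invFun := fun u => ⟨b⁻¹ * u * b⁻¹⁻¹, h.norm_comp hY (inv_mem hb) u.2⟩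
        left_inv := fun u => Subtype.ext (by simp [mul_assoc])
        right_inv := fun u => Subtype.ext (by simp [mul_assoc])
        map_mul' := fun u v => Subtype.ext (by simp [mul_assoc]) }
    have hψ : ψ * ψ = 1 := MulEquiv.ext fun u => Subtype.ext (by
      show b * (b * (u : X) * b⁻¹) * b⁻¹ = (u : X)
      rw [show b * (b * (u : X) * b⁻¹) * b⁻¹ = b * b * (u : X) * (b * b)⁻¹ by group, h.sq b hb]
      simp)
    obtain ⟨x, hx⟩ := hSz.inner (CfsgLib.Components.centralQuotientAut Y ψ) (by rw [← map_mul, hψ, map_one])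
    obtain ⟨u, rfl⟩ := QuotientGroup.mk'_surjective (center Y) x
    have hxv : ∀ v : Y, π (ψ v) = π u * π v * (π u)⁻¹ := fun v => DFunLike.congr_fun hx (π v)
    have hcen : ∀ v : Y, (u⁻¹ * ψ v * u) * v⁻¹ ∈ center Y := fun v => (QuotientGroup.eq_one_iff _).1 (by
      show π (u⁻¹ * ψ v * u * v⁻¹) = 1
      rw [map_mul, map_mul, map_mul, map_inv, map_inv, hxv]; group)
    -- `u⁻¹ b` centralises `Y`
    have hC : (u : X)⁻¹ * b ∈ centralizer (Y : Set X) := by
      let σ : Y →* Y := (MulAut.conj u⁻¹ * ψ : MulAut Y).toMonoidHom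
      have hσ : ∀ v, σ v = u⁻¹ * ψ v * u := fun v => by
        show u⁻¹ * ψ v * u⁻¹⁻¹ = _
        rw [inv_inv]
      have hz : ∀ v m : Y, m * (σ v * v⁻¹) = σ v * v⁻¹ * m := fun v => by
        rw [hσ]; exact mem_center_iff.1 (hcen v)
      let χ : Y →* Y :=
        { toFun := fun v => σ v * v⁻¹
          map_one' := by simp
          map_mul' := fun c d => by
            rw [map_mul, mul_inv_rev, show σ c * σ d * (d⁻¹ * c⁻¹) = σ c * ((σ d * d⁻¹) * c⁻¹) by group,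
              ← hz d c⁻¹]
            group }
      have hker : commutator Y ≤ χ.ker := by
        rw [commutator_def, Subgroup.commutator_le]
        intro c _ d _
        rw [MonoidHom.mem_ker, map_commutatorElement, commutatorElement_eq_one_iff_mul_comm]
        exact hz d (χ c)
      haveI := hY.2.1
      rw [Group.IsPerfect.commutator_eq_top] at hker
      refine mem_centralizer_iff.2 fun v hv => ?_
      have e : σ ⟨v, hv⟩ * (⟨v, hv⟩ : Y)⁻¹ = 1 := hker (mem_top _)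
      rw [mul_inv_eq_one, hσ] at e
      have e' : (u : X)⁻¹ * (b * v * b⁻¹) * u = v := congrArg Subtype.val e
      calc v * ((u : X)⁻¹ * b) = (u : X)⁻¹ * (b * v * b⁻¹) * u * ((u : X)⁻¹ * b) := by rw [e']
        _ = (u : X)⁻¹ * b * v := by group
    -- the class of `u` is an involution of `Q` or trivial
    have hcb : π u * π u = 1 := by
      have h2 : u * u ∈ center Y := by
        refine mem_center_iff.2 fun v => Subtype.ext ?_
        show (v : X) * ((u : X) * u) = (u : X) * u * v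
        have e : (v : X) * ((u : X)⁻¹ * b) = (u : X)⁻¹ * b * v := mem_centralizer_iff.1 hC v v.2
        have hu1 : (u : X) * ((u : X)⁻¹ * b) = ((u : X)⁻¹ * b) * u := mem_centralizer_iff.1 hC u u.2
        have hsq' : (u : X) * u = b * b * (((u : X)⁻¹ * b) * ((u : X)⁻¹ * b))⁻¹ := by
          have : b = (u : X) * ((u : X)⁻¹ * b) := by group
          conv_rhs => rw [this]
          generalize (u : X)⁻¹ * b = k at hu1 ⊢
          rw [show (u : X) * k * ((u : X) * k) = u * (k * u) * k by group, ← hu1]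
          simp [mul_assoc]
        rw [hsq', h.sq b hb, one_mul]
        exact ((show Commute (v : X) ((u : X)⁻¹ * b) from e).mul_right e).inv_right.eq
      rw [← map_mul]; exact (QuotientGroup.eq_one_iff _).2 h2
    have hNQ : π u ∈ normalizer ((Q : Subgroup (Y ⧸ center Y)) : Set (Y ⧸ center Y)) := by
      refine mem_normalizer_iff.2 fun x => ?_
      obtain ⟨v, rfl⟩ := QuotientGroup.mk'_surjective (center Y) x
      rw [← hxv, hQ, hQ]
      show (v : X) ∈ (P : Subgroup X) ↔ b * (v : X) * b⁻¹ ∈ (P : Subgroup X)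
      exact ⟨fun hv => mul_mem (mul_mem (hRP hb) hv) (inv_mem (hRP hb)), fun hv => by
        simpa [mul_assoc] using mul_mem (mul_mem (inv_mem (hRP hb)) hv) (hRP hb)⟩
    have huQ : π u ∈ (Q : Subgroup (Y ⧸ center Y)) := by
      have hp : IsPGroup 2 (zpowers (π u)) := by
        intro x
        obtain ⟨i, hi⟩ := x.2
        refine ⟨1, Subtype.ext ?_⟩
        show (x : Y ⧸ center Y) ^ 2 ^ 1 = 1
        rw [← hi, pow_one, pow_two, ← (Commute.refl (π u)).mul_zpow, hcb, one_zpow]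
      have hS := Q.isPGroup'.to_sup_of_normal_left' hp (zpowers_le.2 hNQ)
      have h1 : π u ∈ (Q : Subgroup (Y ⧸ center Y)) ⊔ zpowers (π u) := mem_sup_right (mem_zpowers _)
      rw [Q.is_maximal' hS le_sup_left] at h1
      exact h1
    exact ⟨u, (hQ u).1 huQ, hSz.mem_Z _ huQ hcb, hC⟩
  -- `R` meets `Y` outside its centre
  obtain ⟨u, huP, huZ, huC⟩ := hinner a ha
  have hu1 : π u ≠ 1 := fun e => hay (by
    have hu : u ∈ center Y := (QuotientGroup.eq_one_iff _).1 e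
    have e1 : (y₀ : X) * u = u * y₀ := congrArg Subtype.val (mem_center_iff.1 hu ⟨y₀, hy₀⟩)
    have e2 : (y₀ : X) * ((u : X)⁻¹ * a) = (u : X)⁻¹ * a * y₀ := mem_centralizer_iff.1 huC _ hy₀
    rw [show a = (u : X) * ((u : X)⁻¹ * a) by group, mul_assoc, ← e2, ← mul_assoc, ← e1, mul_assoc])
  have hlift : ∀ n ∈ normalizer ((Q : Subgroup (Y ⧸ center Y)) : Set (Y ⧸ center Y)), ∀ e : X, e ∈ Y → e ∈ (P : Subgroup X) →
      ∃ g : Y, π g = n ∧ (g : X) * e * (g : X)⁻¹ ∈ (P : Subgroup X) := fun n hn e heY heP => by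
    obtain ⟨g, rfl⟩ := QuotientGroup.mk'_surjective (center Y) n
    refine ⟨g, rfl, ?_⟩
    have := (mem_normalizer_iff.1 hn _).1 ((hQ ⟨e, heY⟩).2 heP)
    rw [← map_inv, ← map_mul, ← map_mul, hQ] at this
    exact this
  -- one nontrivial element, then all of the centre
  obtain ⟨e₀, he₀R, he₀Y, he₀1⟩ : ∃ e ∈ R, ∃ heY : e ∈ Y, π ⟨e, heY⟩ ≠ 1 := by
    obtain ⟨z', hz', hz'1, hne⟩ : ∃ z' ∈ Z, z' ≠ 1 ∧ z' ≠ π u := by
      by_contra hno
      push Not at hno
      obtain ⟨m, hm, hq⟩ := hSz.pow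
      have hle : Nat.card Z ≤ Nat.card Bool := Nat.card_le_card_of_surjective
        (fun b : Bool => if b then (1 : Z) else ⟨π u, huZ⟩) fun x => by
          by_cases hx : x = 1
          · exact ⟨true, hx.symm⟩
          · exact ⟨false, Subtype.ext (hno x x.2 fun e => hx (Subtype.ext e)).symm⟩
      rw [hSz.card_Z, hq, Nat.card_eq_fintype_card (α := Bool), Fintype.card_bool] at hle
      have : 2 ^ 2 ≤ 2 ^ (2 * m + 1) := Nat.pow_le_pow_right two_pos (by omega)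
      omega
    obtain ⟨n, hn, hnz⟩ := hSz.trans_Z _ huZ z' hz' hu1 hz'1
    obtain ⟨g, hg, hgP⟩ := hlift n hn u u.2 huP
    set k := (u : X)⁻¹ * a with hk
    have hkP : k ∈ (P : Subgroup X) := mul_mem (inv_mem huP) (hRP ha)
    have hgk : (g : X) * k = k * g := mem_centralizer_iff.1 huC g g.2
    have hga : (g : X) * a * (g : X)⁻¹ = (g : X) * u * (g : X)⁻¹ * k := by
      rw [show a = (u : X) * k by rw [hk]; group,
        show (g : X) * ((u : X) * k) * (g : X)⁻¹ = g * u * (g : X)⁻¹ * ((g : X) * k) * (g : X)⁻¹ by group, hgk]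
      group
    have hgaM : (g : X) * a * (g : X)⁻¹ ∈ M := hPM (hga ▸ mul_mem hgP hkP)
    have ha1 : a ≠ 1 := fun e => hay (by rw [e, one_mul, mul_one])
    have hgR := h.inv _ (h.fix a ha ha1 _ hgaM) a ha
    have hd : (g : X) * a * (g : X)⁻¹ * a⁻¹ = (g : X) * u * (g : X)⁻¹ * (u : X)⁻¹ := by
      rw [hga, hk]; group
    refine ⟨_, mul_mem hgR (inv_mem ha), by rw [hd]; exact (g * u * g⁻¹ * u⁻¹ : Y).2, fun e => hne ?_⟩
    have e' : π (g * u * g⁻¹ * u⁻¹) = 1 := by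
      rw [← e]; exact congrArg π (Subtype.ext hd.symm)
    rw [map_mul, map_mul, map_mul, map_inv, map_inv, hg, hnz, mul_inv_eq_one] at e'
    exact e'
  have he₀' : e₀ ≠ 1 := fun e => he₀1 (by subst e; exact map_one π)
  have he₀Z : π ⟨e₀, he₀Y⟩ ∈ Z := hSz.mem_Z _ ((hQ _).2 (hRP he₀R)) (by
    rw [← map_mul, show (⟨e₀, he₀Y⟩ : Y) * ⟨e₀, he₀Y⟩ = 1 from Subtype.ext (h.sq _ he₀R), map_one])
  have honto : ∀ z ∈ Z, z ≠ 1 → ∃ e ∈ R, ∃ heY : e ∈ Y, π ⟨e, heY⟩ = z := fun z hz hz1 => by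
    obtain ⟨n, hn, hnz⟩ := hSz.trans_Z _ he₀Z z hz he₀1 hz1
    obtain ⟨g, hg, hgP⟩ := hlift n hn e₀ he₀Y (hRP he₀R)
    refine ⟨_, h.inv _ (h.fix e₀ he₀R he₀' _ (hPM hgP)) e₀ he₀R, mul_mem (mul_mem g.2 he₀Y) (inv_mem g.2), ?_⟩
    rw [← hnz, ← hg, ← map_inv, ← map_mul, ← map_mul]
    exact congrArg π (Subtype.ext rfl)
  -- `Y` is not inside `M`
  have hnot : ¬ Y ≤ M := fun hYM => by
    haveI := hSz.simple
    let T : Subgroup (Y ⧸ center Y) := (R.subgroupOf Y).map π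
    haveI : T.Normal := Subgroup.Normal.map
      ⟨fun r hr g => mem_subgroupOf.2 (h.inv _ (hYM g.2) _ (mem_subgroupOf.1 hr))⟩ π (QuotientGroup.mk'_surjective _)
    rcases (inferInstance : T.Normal).eq_bot_or_eq_top with e | e
    · exact he₀1 (mem_bot.1 (e ▸ ⟨⟨e₀, he₀Y⟩, mem_subgroupOf.2 he₀R, rfl⟩))
    · have hle : T ≤ Z := by
        rintro _ ⟨r, hr, rfl⟩
        exact hSz.mem_Z _ ((hQ r).2 (hRP (mem_subgroupOf.1 hr))) (by
          rw [← map_mul, show r * r = 1 from Subtype.ext (h.sq _ (mem_subgroupOf.1 hr)), map_one])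
      have hc := hSz.card_Z
      rw [show Z = ⊤ from top_le_iff.1 (e ▸ hle), Subgroup.card_top, hSz.card] at hc
      obtain ⟨m, hm, hq⟩ := hSz.pow
      have hq8 : 8 ≤ q := by rw [hq]; exact le_trans (by norm_num) (Nat.pow_le_pow_right two_pos (show 3 ≤ 2 * m + 1 by omega))
      have h2 : q * q * (q * q + 1) * (q - 1) ≤ q := by rw [← pow_two]; exact hc.le
      have : 1 ≤ q - 1 := by omega
      have : q * q * 1 * 1 ≤ q * q * (q * q + 1) * (q - 1) := by gcongr; omega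
      nlinarith
  refine ⟨Y, P, hY, fun b hb => ?_, hnot, hPM⟩
  obtain ⟨v, hvP, hvZ, hvC⟩ := hinner b hb
  obtain ⟨e, heR, heY, hev⟩ : ∃ e ∈ R, ∃ heY : e ∈ Y, π ⟨e, heY⟩ = π v := by
    by_cases hv : π v = 1
    · exact ⟨1, one_mem _, one_mem _, by rw [hv]; exact map_one π⟩
    · exact honto _ hvZ hv
  have hd : e⁻¹ * b ∈ centralizer (Y : Set X) := by
    refine mem_centralizer_iff.2 fun w hw => ?_
    have hcc : (⟨e, heY⟩ : Y)⁻¹ * v ∈ center Y := (QuotientGroup.eq_one_iff _).1 (by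
      show π ((⟨e, heY⟩ : Y)⁻¹ * v) = 1
      rw [map_mul, map_inv, hev, inv_mul_cancel])
    have e1 : w * (e⁻¹ * (v : X)) = e⁻¹ * (v : X) * w := congrArg Subtype.val (mem_center_iff.1 hcc ⟨w, hw⟩)
    have e2 : w * ((v : X)⁻¹ * b) = (v : X)⁻¹ * b * w := mem_centralizer_iff.1 hvC w hw
    rw [show e⁻¹ * b = (e⁻¹ * (v : X)) * ((v : X)⁻¹ * b) by group]
    exact ((show Commute w (e⁻¹ * (v : X)) from e1).mul_right e2).eq
  have : e⁻¹ * b = 1 := by
    by_contra hne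
    exact hnot fun w hw => h.cent (mul_mem (inv_mem heR) hb) hne (mem_centralizer_iff.1 hd w hw)
  rw [← inv_mul_eq_one.1 this]
  exact heY

end BlockCtx

end CfsgLib.ThreePrime.Point
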