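import Cfsg.Agent.Lib.Known.SuzukiAut
import Cfsg.Agent.Lib.Lie.Suzuki.Structure
import Cfsg.Agent.Lib.Lie.Suzuki.Tori
import Cfsg.Agent.Lib.Signalizer.Basic
import Cfsg.Prelude.Def_Sz

/-!
Owner: helper29. S0336, slice D: what the points need about a Suzuki group and one of its Sylow 2-subgroups.
-/

set_option autoImplicit false
set_option linter.style.haveILetI false
set_option linter.unusedSectionVars false

namespace CfsgLib.ThreePrime.Point

open Subgroup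
open CfsgLib.Lie.Suzuki

universe u

/-- The facts on a Sylow 2-subgroup `P` with centre `Z` in a Suzuki group over `q` elements. -/
structure SzPack (X : Type u) [Group X] (q : ℕ) (P Z : Subgroup X) : Prop where
  pow : ∃ m, 1 ≤ m ∧ q = 2 ^ (2 * m + 1)
  simple : IsSimpleGroup X
  card : Nat.card X = q ^ 2 * (q ^ 2 + 1) * (q - 1)
  le : Z ≤ P
  card_Z : Nat.card Z = q
  central : ∀ z ∈ Z, ∀ x ∈ P, x * z = z * x
  mem_Z : ∀ x ∈ P, x * x = 1 → x ∈ Z
  sq_Z : ∀ z ∈ Z, z * z = 1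
  sq_mem : ∀ x ∈ P, x * x ∈ Z
  comm_mem : ∀ x ∈ P, ∀ y ∈ P, x * y * x⁻¹ * y⁻¹ ∈ Z
  gen : ∀ z ∈ Z, ∃ x ∈ P, ∃ y ∈ P, x * y * x⁻¹ * y⁻¹ = z
  trans_Z : ∀ z ∈ Z, ∀ z' ∈ Z, z ≠ 1 → z' ≠ 1 → ∃ n ∈ normalizer (P : Set X), n * z * n⁻¹ = z'
  norm_Z : normalizer (Z : Set X) = normalizer (P : Set X)
  index : (normalizer (P : Set X)).index = q ^ 2 + 1
  torus : ∃ t ∈ normalizer (P : Set X), ∀ x ∈ P, ∀ y ∈ P, x ∉ Z → y ∉ Z →
    ∃ i : ℕ, (t ^ i * x * (t ^ i)⁻¹)⁻¹ * y ∈ Z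
  inner : ∀ φ : MulAut X, φ * φ = 1 → ∃ x : X, φ = MulAut.conj x

theorem exists_equiv {X : Type u} [Group X] (h : Cfsg.Lie.IsoSuzuki X) :
    ∃ (F : Type) (_ : Field F) (_ : CharP F 2) (_ : Fintype F) (m : ℕ) (_ : Fintype.card F = 2 ^ (2 * m + 1)),
      1 ≤ m ∧ Nonempty (Cfsg.Sz F m ≃* X) := by
  obtain ⟨F, iF, iT, m, hm, hF, ⟨e⟩⟩ := h
  haveI := charTwo_of_card hF
  exact ⟨F, iF, inferInstance, iT, m, hF, hm, ⟨(equivLie hm hF).trans e.symm⟩⟩

/-- Every Sylow 2-subgroup of a Suzuki group has the facts. -/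
theorem szPack_of_iso {X : Type u} [Group X] [Finite X] (h : Cfsg.Lie.IsoSuzuki X) (P : Sylow 2 X) :
    ∃ (q : ℕ) (Z : Subgroup X), SzPack X q (P : Subgroup X) Z := by
  classical
  haveI := Fact.mk Nat.prime_two
  obtain ⟨F, iF, iC, iT, m, hF, hm, ⟨e₀⟩⟩ := exists_equiv h
  -- move the model Sylow subgroup to `P`
  obtain ⟨g, hg⟩ := MulAction.exists_smul_eq X ((sylU hF hm).mapSurjective (f := e₀.toMonoidHom) (show Function.Surjective e₀.toMonoidHom from e₀.surjective)) P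
  let e : Cfsg.Sz F m ≃* X := e₀.trans (MulAut.conj g)
  have hP : (P : Subgroup X) = (unip hF).map e.toMonoidHom := by
    rw [← hg, Sylow.coe_subgroup_smul, Sylow.coe_mapSurjective, coe_sylU]
    ext x
    simp only [Subgroup.mem_pointwise_smul_iff_inv_smul_mem, Subgroup.mem_map, MulAut.smul_def]
    constructor
    · rintro ⟨y, hy, he⟩
      refine ⟨y, hy, ?_⟩
      show MulAut.conj g (e₀ y) = x
      rw [show e₀ y = (MulAut.conj g)⁻¹ x from he, MulAut.apply_inv_self]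
    · rintro ⟨y, hy, rfl⟩
      exact ⟨y, hy, (MulAut.inv_apply_self _ (MulAut.conj g) (e₀ y)).symm⟩
  let Z₀ : Subgroup (Cfsg.Sz F m) :=
    { carrier := {x | ∃ b, x = uS hF 0 b}
      one_mem' := ⟨0, (uS_one hF).symm⟩
      mul_mem' := by
        rintro _ _ ⟨a, rfl⟩ ⟨b, rfl⟩
        exact ⟨a + b, by rw [uS_mul]; simp⟩
      inv_mem' := by
        rintro _ ⟨a, rfl⟩
        exact ⟨a, by rw [uS_inv]; simp⟩ }
  have hcardF : Fintype.card F = 2 ^ (2 * m + 1) := hF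
  have hNP : normalizer ((P : Subgroup X) : Set X) = (borel F m).map e.toMonoidHom := by
    rw [hP, ← normalizer_unip hF hm, Subgroup.map_normalizer_eq_of_bijective (f := e.toMonoidHom) _ e.bijective]
  have hmemP : ∀ x ∈ (P : Subgroup X), ∃ a b, x = e (uS hF a b) := fun x hx => by
    rw [hP] at hx
    obtain ⟨_, ⟨a, b, rfl⟩, rfl⟩ := hx
    exact ⟨a, b, rfl⟩
  have hPmem : ∀ a b, e (uS hF a b) ∈ (P : Subgroup X) := fun a b => by
    rw [hP]; exact ⟨_, uS_mem hF a b, rfl⟩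
  have hmemZ : ∀ a b, e (uS hF a b) ∈ Z₀.map e.toMonoidHom ↔ a = 0 := fun a b => by
    constructor
    · rintro ⟨_, ⟨b', rfl⟩, he⟩
      exact (uS_inj hF (e.injective he)).1.symm
    · rintro rfl
      exact ⟨_, ⟨b, rfl⟩, rfl⟩
  have hN : ∀ t : Fˣ, e (tS hF t) ∈ normalizer ((P : Subgroup X) : Set X) := fun t => by
    rw [hNP]; exact ⟨_, tS_mem_borel hF t, rfl⟩
  refine ⟨Fintype.card F, Z₀.map e.toMonoidHom, ⟨m, hm, hF⟩, ?_, ?_, ?_, ?_, ?_, ?_, ?_, ?_, ?_, ?_, ?_, ?_,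
    ?_, ?_, ?_⟩
  · haveI := isSimple hF hm
    haveI : Nontrivial X := e.symm.toEquiv.nontrivial
    exact IsSimpleGroup.isSimpleGroup_of_surjective e.toMonoidHom e.surjective
  · rw [← Nat.card_congr e.toEquiv, nat_card hF hm]
  · rintro _ ⟨_, ⟨b, rfl⟩, rfl⟩
    exact hPmem 0 b
  · rw [card_map_of_injective e.injective]
    rw [← Nat.card_eq_fintype_card]
    exact (Nat.card_eq_of_bijective (fun b : F => (⟨uS hF 0 b, b, rfl⟩ : Z₀))
      ⟨fun b b' h => (uS_inj hF (congrArg Subtype.val h)).2, fun z => by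
        obtain ⟨b, hb⟩ := z.2
        exact ⟨b, Subtype.ext hb.symm⟩⟩).symm
  · rintro _ ⟨_, ⟨d, rfl⟩, rfl⟩ x hx
    obtain ⟨a, b, rfl⟩ := hmemP x hx
    show e _ * e _ = e _ * e _
    rw [← map_mul, ← map_mul, ← uS_comm_zero]
  · intro x hx h1
    obtain ⟨a, b, rfl⟩ := hmemP x hx
    rw [← map_mul, ← pow_two, uS_sq, ← map_one e, ← uS_one hF] at h1
    refine (hmemZ a b).2 ?_
    rcases mul_eq_zero.1 (uS_inj hF (e.injective h1)).2 with h | h
    · exact (map_eq_zero (th F m)).1 h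
    · exact h
  · rintro _ ⟨_, ⟨d, rfl⟩, rfl⟩
    show e _ * e _ = 1
    rw [← map_mul, ← pow_two, uS_sq]
    simp [uS_one]
  · intro x hx
    obtain ⟨a, b, rfl⟩ := hmemP x hx
    rw [← map_mul, ← pow_two, uS_sq]
    exact (hmemZ _ _).2 rfl
  · intro x hx y hy
    obtain ⟨a, b, rfl⟩ := hmemP x hx
    obtain ⟨c, d, rfl⟩ := hmemP y hy
    rw [← map_inv, ← map_inv, ← map_mul, ← map_mul, ← map_mul, conj_uS_uS, uS_inv, uS_mul]
    exact (hmemZ _ _).2 (CharTwo.add_self_eq_zero c)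
  · rintro _ ⟨_, ⟨d, rfl⟩, rfl⟩
    obtain ⟨a, c, hac⟩ := exists_bracket hF hm d
    refine ⟨_, hPmem a 0, _, hPmem c 0, ?_⟩
    show e _ * e _ * (e _)⁻¹ * (e _)⁻¹ = e _
    rw [← map_inv, ← map_inv, ← map_mul, ← map_mul, ← map_mul, conj_uS_uS, uS_inv, uS_mul]
    congr 2
    · exact CharTwo.add_self_eq_zero c
    · rw [← hac]
      have h2 : (2 : F) = 0 := CharTwo.two_eq_zero
      grind
  · rintro _ ⟨_, ⟨b, rfl⟩, rfl⟩ _ ⟨_, ⟨b', rfl⟩, rfl⟩ hb hb'
    have hb0 : b ≠ 0 := fun h => hb (by subst h; simp [uS_one])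
    have hb0' : b' ≠ 0 := fun h => hb' (by subst h; simp [uS_one])
    obtain ⟨t, ht⟩ := th_unit_surjective (m := m) (b' / b) (div_ne_zero hb0' hb0)
    refine ⟨e (tS hF t), hN t, ?_⟩
    show e _ * e _ * (e _)⁻¹ = e _
    rw [← map_inv, ← map_mul, ← map_mul, conj_uS, mul_zero, ht, div_mul_cancel₀ _ hb0]
  · rw [hNP, ← Subgroup.map_normalizer_eq_of_bijective (f := e.toMonoidHom) Z₀ e.bijective]
    congr 1
    refine le_antisymm (fun g hg => ?_) fun g hg => ?_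
    · have h1 : g * uS hF 0 1 * g⁻¹ ∈ Z₀ := (Subgroup.mem_normalizer_iff.1 hg _).1 ⟨1, rfl⟩
      obtain ⟨b, hb⟩ := h1
      have h2 : (g * uS hF 0 1 * g⁻¹) • pt F m none = pt F m none := by rw [hb, uS_none]
      rw [mul_smul, mul_smul, smul_eq_iff_eq_inv_smul] at h2
      have h3 := CfsgLib.Known.SuzukiAut.fix_uS hF h2
      rw [inv_smul_eq_iff] at h3
      exact h3.symm
    · have key : ∀ g ∈ borel F m, ∀ x ∈ Z₀, g * x * g⁻¹ ∈ Z₀ := by
        rintro g hg _ ⟨b, rfl⟩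
        obtain ⟨a', b', t, rfl⟩ := stab_inf hF hm hg
        refine ⟨th F m t * b, ?_⟩
        rw [show uS hF a' b' * tS hF t * uS hF 0 b * (uS hF a' b' * tS hF t)⁻¹ =
          uS hF a' b' * (tS hF t * uS hF 0 b * (tS hF t)⁻¹) * (uS hF a' b')⁻¹ by group, conj_uS, mul_zero,
          ← uS_comm_zero, mul_inv_cancel_right]
      refine Subgroup.mem_normalizer_iff.2 fun x => ⟨key g hg x, fun hx => ?_⟩
      have := key g⁻¹ (inv_mem hg) _ hx
      simpa [mul_assoc] using this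
  · rw [hNP, Subgroup.index_map_of_bijective (f := e.toMonoidHom) e.bijective]
    haveI := pretransitive (m := m) hF
    rw [CfsgLib.Lie.Suzuki.borel, MulAction.index_stabilizer_of_transitive, ← Nat.card_congr (pt F m), Finite.card_option,
      Nat.card_prod, Nat.card_eq_fintype_card, pow_two]
  · obtain ⟨c, hc⟩ := IsCyclic.exists_generator (α := Fˣ)
    refine ⟨e (tS hF c), hN c, fun x hx y hy hxZ hyZ => ?_⟩
    obtain ⟨a, b, rfl⟩ := hmemP x hx
    obtain ⟨a', b', rfl⟩ := hmemP y hy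
    rw [hmemZ] at hxZ hyZ
    obtain ⟨t, ht⟩ := torusRatio_surjective (m := m) hF (a' / a) (div_ne_zero hyZ hxZ)
    obtain ⟨i, hi⟩ := mem_powers_iff_mem_zpowers.2 (hc t)
    have hi' : c ^ i = t := hi
    refine ⟨i, ?_⟩
    rw [← map_pow, ← map_pow, hi', ← map_inv, ← map_mul, ← map_mul, conj_uS, ht, div_mul_cancel₀ _ hxZ,
      ← map_inv, ← map_mul, uS_inv, uS_mul]
    exact (hmemZ _ _).2 (CharTwo.add_self_eq_zero a')
  · intro φ hφ
    let ψ : MulAut (Cfsg.Sz F m) := (e.trans φ).trans e.symm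
    have hψ : ψ * ψ = 1 := MulEquiv.ext fun x => by
      show e.symm (φ (e (e.symm (φ (e x))))) = x
      rw [e.apply_symm_apply, show φ (φ (e x)) = e x from DFunLike.congr_fun hφ (e x), e.symm_apply_apply]
    set c := QuotientGroup.mk' (Cfsg.Inn (Cfsg.Sz F m)) ψ with hc
    have h2 : c * c = 1 := by rw [hc, ← map_mul, hψ, map_one]
    have hodd : Odd (Nat.card (Cfsg.Out (Cfsg.Sz F m))) := by
      rw [CfsgLib.Known.SuzukiAut.card_out hF hm]; exact ⟨m, rfl⟩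
    have h1 : c = 1 := by
      by_contra h
      exact hodd.not_two_dvd_nat (by
        rw [← orderOf_eq_prime (p := 2) (by rw [pow_two, h2]) h]; exact orderOf_dvd_natCard c)
    obtain ⟨x, hx⟩ := (QuotientGroup.eq_one_iff ψ).1 h1
    refine ⟨e x, MulEquiv.ext fun y => ?_⟩
    have := DFunLike.congr_fun hx (e.symm y)
    simp only [MulAut.conj_apply] at this
    show φ y = e x * y * (e x)⁻¹
    rw [show e x * y * (e x)⁻¹ = e (x * e.symm y * x⁻¹) by simp, this]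
    show φ y = e (e.symm (φ (e (e.symm y))))
    rw [e.apply_symm_apply, e.apply_symm_apply]

end CfsgLib.ThreePrime.Point
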